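import Cfsg.Agent.H856.AutM22
import Cfsg.Agent.H857.Orbits
import Cfsg.Agent.J4Type.TauMain

/-!
# J₄ type: the centraliser of a duad is `2^11 : Aut(M₂₂)` (helper857)

`cent_duad` : for `C : Compl G`, `C_G(ε {none, some 0}) = E : φ(duad)`, `φ(duad) ≃* MulAut M22`.
-/

set_option autoImplicit false

open scoped Pointwise

namespace Cfsg.Agent.H857.Duad

open Cfsg Cfsg.Agent.J4Type Cfsg.Agent.J4Type.CloseInst Cfsg.Agent.BabyM.DuadGen

variable {G : Type*} [Group G]

theorem φ_injective (C : J4Type.Compl G) : Function.Injective C.φ := by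
  intro a b h
  have h1 := C.π_φ a
  have h2 := C.π_φ b
  have h3 : (⟨C.φ a, C.φ_mem a⟩ : Subgroup.normalizer (C.E hex0 : Set G)) = ⟨C.φ b, C.φ_mem b⟩ :=
    Subtype.ext h
  rw [h3, h2] at h1
  exact h1.symm

/-- the complement in the centraliser of the duad -/
def KD (C : J4Type.Compl G) : Subgroup G := (duad.subgroupOf M24).map C.φ

theorem mem_KD {C : J4Type.Compl G} {x : G} : x ∈ KD C ↔ ∃ g : M24, (g : Equiv.Perm GolayPt) ∈ duad ∧ C.φ g = x :=
  Iff.rfl

/-- `φ(duad)` is isomorphic to the automorphism group of `M22` -/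
theorem KD_iso (C : J4Type.Compl G) : Nonempty (KD C ≃* MulAut Cfsg.Spor.M22) := by
  have e1 : duad.subgroupOf M24 ≃* KD C := (duad.subgroupOf M24).equivMapOfInjective C.φ (φ_injective C)
  have e2 : duad.subgroupOf M24 ≃* duad := Subgroup.subgroupOfEquivOfLe duad_le
  have e3 : MulAut Cfsg.Spor.M22 ≃* Cfsg.Agent.H856.AutM22.autHom.range :=
    MonoidHom.ofInjective Cfsg.Agent.H856.AutM22.autHom_injective
  have e4 : Cfsg.Agent.H856.AutM22.autHom.range ≃* duad :=
    MulEquiv.subgroupCongr Cfsg.Agent.H856.AutM22.autHom_range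
  exact ⟨e1.symm.trans (e2.trans (e4.symm.trans e3.symm))⟩

theorem none_ne : (none : GolayPt) ≠ some 0 := by decide

theorem card_base : ({none, some 0} : Finset GolayPt).card = 2 := Finset.card_pair none_ne

theorem mem_duad_iff {g : Equiv.Perm GolayPt} : g ∈ duad ↔
    g ∈ M24 ∧ g • ({none, some 0} : Finset GolayPt) = {none, some 0} := by
  rw [duad_eq]
  exact Iff.rfl

variable [Finite G] (C : J4Type.Compl G)

theorem E_le : C.E hex0 ≤ Subgroup.centralizer ({C.ε {none, some 0}} : Set G) := by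
  intro a ha
  rw [Subgroup.mem_centralizer_singleton_iff]
  exact (C.E_elem hex0 HexMax.hex0_isHex).2 a ha _ (C.ε_mem _ (by rw [card_base]; decide))

theorem KD_le : KD C ≤ Subgroup.centralizer ({C.ε {none, some 0}} : Set G) := by
  rintro _ ⟨g, hg, rfl⟩
  rw [Subgroup.mem_centralizer_singleton_iff]
  have h := TauMain.φ_ε C g (S := {none, some 0}) (by rw [card_base]; decide)
  have h2 : (g : Equiv.Perm GolayPt) • ({none, some 0} : Finset GolayPt) = {none, some 0} :=
    (mem_duad_iff.1 (Subgroup.mem_subgroupOf.1 hg)).2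
  rw [h2] at h
  exact mul_inv_eq_iff_eq_mul.1 h

theorem inf_eq : KD C ⊓ C.E hex0 = ⊥ := by
  rw [eq_bot_iff]
  rintro _ ⟨⟨g, hg, rfl⟩, hE⟩
  rw [Subgroup.mem_bot]
  have h1 := (C.π_ker ⟨C.φ g, C.φ_mem g⟩).2 hE
  rw [C.π_φ] at h1
  rw [h1, map_one]

theorem exists_mul {x : G} (hx : x * C.ε {none, some 0} = C.ε {none, some 0} * x) :
    ∃ a ∈ C.E hex0, ∃ k ∈ KD C, x = a * k := by
  have hn := DuadCent.duad_cent C.toFrame none_ne hx
  have h1 := C.π_smul ⟨x, hn⟩ {none, some 0} (by rw [card_base]; decide)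
  have h2 : (x : G) * C.ε {none, some 0} * x⁻¹ = C.ε {none, some 0} := by
    rw [hx]; group
  have h3 : (C.π ⟨x, hn⟩ : Equiv.Perm GolayPt) • ({none, some 0} : Finset GolayPt) =
      {none, some 0} := by
    apply Orbits.ε_pair_inj C.toFrame (by rw [Finset.card_smul_finset, card_base]) card_base
    exact h1.symm.trans h2
  refine ⟨x * (C.φ (C.π ⟨x, hn⟩))⁻¹, ?_, C.φ (C.π ⟨x, hn⟩),
    ⟨_, mem_duad_iff.2 ⟨(C.π ⟨x, hn⟩).2, h3⟩, rfl⟩, by group⟩
  have h4 : C.π (⟨x, hn⟩ * ⟨C.φ (C.π ⟨x, hn⟩), C.φ_mem _⟩⁻¹) = 1 := by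
    rw [map_mul, map_inv, C.π_φ, mul_inv_cancel]
  exact (C.π_ker _).1 h4

theorem sup_eq : KD C ⊔ C.E hex0 = Subgroup.centralizer ({C.ε {none, some 0}} : Set G) := by
  apply le_antisymm (sup_le (KD_le C) (E_le C))
  intro x hx
  rw [Subgroup.mem_centralizer_singleton_iff] at hx
  obtain ⟨a, ha, k, hk, rfl⟩ := exists_mul C hx
  exact Subgroup.mul_mem _ (Subgroup.mem_sup_right ha) (Subgroup.mem_sup_left hk)

theorem le_normalizer : Subgroup.centralizer ({C.ε {none, some 0}} : Set G) ≤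
    Subgroup.normalizer (C.E hex0 : Set G) := by
  intro x hx
  rw [Subgroup.mem_centralizer_singleton_iff] at hx
  exact DuadCent.duad_cent C.toFrame none_ne hx

theorem centralizer_smul (g t : G) : Subgroup.centralizer ({g * t * g⁻¹} : Set G) =
    MulAut.conj g • Subgroup.centralizer ({t} : Set G) := by
  ext x
  rw [Orbits.mem_smul_iff, Subgroup.mem_centralizer_singleton_iff,
    Subgroup.mem_centralizer_singleton_iff]
  constructor
  · intro h
    calc g⁻¹ * x * g * t = g⁻¹ * (x * (g * t * g⁻¹)) * g := by group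
      _ = g⁻¹ * (g * t * g⁻¹ * x) * g := by rw [h]
      _ = _ := by group
  · intro h
    calc x * (g * t * g⁻¹) = g * (g⁻¹ * x * g * t) * g⁻¹ := by group
      _ = g * (t * (g⁻¹ * x * g)) * g⁻¹ := by rw [h]
      _ = _ := by group

/-- **the centraliser of a duad** -/
theorem cent_duad (t : G) (ht : ∃ g : G, g * C.ε {none, some 0} * g⁻¹ = t) :
    ∃ V K : Subgroup G, V ≤ Subgroup.centralizer ({t} : Set G) ∧ K ≤ Subgroup.centralizer ({t} : Set G) ∧
    Subgroup.centralizer ({t} : Set G) ≤ Subgroup.normalizer (V : Set G) ∧ IsElem2 V ∧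
    Nat.card V = 2 ^ 11 ∧ K ⊓ V = ⊥ ∧ K ⊔ V = Subgroup.centralizer ({t} : Set G) ∧
    Nonempty (K ≃* MulAut Cfsg.Spor.M22) := by
  obtain ⟨g, rfl⟩ := ht
  obtain ⟨e⟩ := KD_iso C
  refine ⟨MulAut.conj g • C.E hex0, MulAut.conj g • KD C, ?_, ?_, ?_, ?_, ?_, ?_, ?_, ?_⟩
  · rw [centralizer_smul]
    exact Subgroup.pointwise_smul_le_pointwise_smul_iff.2 (E_le C)
  · rw [centralizer_smul]
    exact Subgroup.pointwise_smul_le_pointwise_smul_iff.2 (KD_le C)
  · rw [centralizer_smul]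
    intro x hx
    rw [Orbits.mem_normalizer_smul]
    rw [Orbits.mem_smul_iff] at hx
    exact le_normalizer C hx
  · exact Cfsg.Agent.H856.TwoEleven.isElem2_smul (C.E_elem hex0 HexMax.hex0_isHex) g
  · rw [Cfsg.Agent.H856.TwoEleven.card_smul, C.E_card hex0 HexMax.hex0_isHex]
  · rw [← Subgroup.smul_inf, inf_eq, Subgroup.smul_bot]
  · rw [← Subgroup.smul_sup, sup_eq, centralizer_smul]
  · exact ⟨(Subgroup.equivSMul (MulAut.conj g) (KD C)).symm.trans e⟩

end Cfsg.Agent.H857.Duad
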