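import Cfsg.Agent.J4Type.Top

/-!
# J₄ type: the two classes of involutions (helper857)

For a finite simple group `G` with a structure `C : J4Type.Compl G`, `E = C.E hex0`:

* `exists_conj_E` : every involution is conjugate into `E`;
* `classes` : every involution is conjugate to `C.z` or to a duad `C.ε {p, q}`.
-/

set_option autoImplicit false

open scoped Pointwise

namespace Cfsg.Agent.H857.EA

open Cfsg Cfsg.Agent.J4Type Cfsg.Agent.J4Type.FinalRel Cfsg.Agent.J4Type.FinalTau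
open Cfsg.Agent.J4Type.CloseInst

variable {G : Type*} [Group G]

/-- every involution is conjugate into `E` -/
theorem exists_conj_E [Finite G] [IsSimpleGroup G] (C : J4Type.Compl G) {u : G} (hu : u * u = 1)
    (hu1 : u ≠ 1) : ∃ g : G, g * u * g⁻¹ ∈ C.E hex0 := by
  have hJ := Cfsg.Agent.S1703.result
  have hsimp := hJ.1
  have hfin : Finite Cfsg.Spor.J4 := Final.finite_J4 hJ
  obtain ⟨T, rfl⟩ := TauMain.exists_tau C
  have F := Tau.tauFam T (Rel2.relator2 T)
  obtain ⟨f, hphi, -, hs, -, -⟩ := F.exists_hom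
  have hinj : Function.Injective f := FinalEmb.TauFam.injective hs
  have hcard : Nat.card Cfsg.Spor.J4 = Nat.card G := by
    obtain ⟨f', hf'⟩ := Top.exists_bijective_of_tau T (Rel2.relator2 T)
    exact Nat.card_congr (Equiv.ofBijective f' hf')
  have hsurj : Function.Surjective f :=
    ((Nat.bijective_iff_injective_and_card f).2 ⟨hinj, hcard⟩).2
  obtain ⟨v, rfl⟩ := hsurj u
  have h3 : v * v = 1 := hinj (by rw [map_mul, hu, map_one])
  have h4 : v ≠ 1 := by
    rintro rfl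
    exact hu1 (map_one f)
  obtain ⟨g, hg⟩ := Final.exists_mem_EJ hJ v h3 h4
  have hB : tetB.card = 4 := by decide +kernel
  have hE := ClosingJ4.map_EJ T.toCompl f hphi hB hs
  refine ⟨f g, ?_⟩
  rw [← map_inv, ← map_mul, ← map_mul]
  show _ ∈ EE T.toCompl.toFrame
  rw [← hE]
  exact ⟨_, hg, rfl⟩

/-- the two classes of involutions -/
theorem classes [Finite G] [IsSimpleGroup G] (C : J4Type.Compl G) {u : G} (hu : u * u = 1)
    (hu1 : u ≠ 1) : (∃ g : G, g * C.z * g⁻¹ = u) ∨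
      ∃ (p q : GolayPt) (g : G), p ≠ q ∧ g * C.ε {p, q} * g⁻¹ = u := by
  obtain ⟨g, hg⟩ := exists_conj_E C hu hu1
  have e0 : u = g⁻¹ * (g * u * g⁻¹) * g := by group
  rcases E_cases C.toFrame (a := g * u * g⁻¹) hg with h | ⟨p, q, hpq, h⟩ | ⟨S, hS, h⟩
  · exfalso
    apply hu1
    rw [e0, h]
    group
  · right
    refine ⟨p, q, g⁻¹, hpq, ?_⟩
    show g⁻¹ * C.toFrame.ε {p, q} * g⁻¹⁻¹ = u
    rw [← h, inv_inv, ← e0]
  · left
    obtain ⟨n, hn⟩ := isConj_iff.1 (DuadCent.isConj_four C.toFrame hS)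
    refine ⟨g⁻¹ * n, ?_⟩
    rw [e0, h, ← hn]
    show g⁻¹ * n * C.z * (g⁻¹ * n)⁻¹ = _
    group

end Cfsg.Agent.H857.EA
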