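import Cfsg.Agent.H857.T10Compl
import Cfsg.Agent.H856.Bridge
import Cfsg.Agent.H856.ToHyp

/-!
# Self-centralising elementary abelian subgroups of order `2^10` in a group of type `J₄` (helper857)
-/

set_option autoImplicit false

open scoped Pointwise

namespace Cfsg.Agent.H857.T10Main

open Cfsg Cfsg.Agent.J4.Beta
open Cfsg.Agent.J4Type
open Cfsg.Agent.H857.WGrp Cfsg.Agent.H857.Normal
open Cfsg.Agent.H857.T10Rel Cfsg.Agent.H857.T10Act Cfsg.Agent.H857.T10Model
open Cfsg.Agent.H857.Orbits (mem_smul_iff conj_mem_smul mem_normalizer_smul orb ncard_orb_smul)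

variable {G : Type*} [Group G]

theorem isElem2_of {A : Subgroup G} (hA : Cfsg.IsElementaryAbelian 2 A) : IsElem2 A :=
  ⟨fun a ha => by rw [← pow_two]; exact hA.2 a ha,
    fun a ha b hb => congrArg Subtype.val (hA.1.1.1 ⟨a, ha⟩ ⟨b, hb⟩)⟩

theorem elementary_of {A : Subgroup G} (hA : ∀ a ∈ A, a * a = 1) : Cfsg.IsElementaryAbelian 2 A :=
  ⟨⟨⟨fun a b => Subtype.ext (Card.comm_of_sq hA a a.2 b b.2)⟩⟩,
    fun a ha => by rw [pow_two]; exact hA a ha⟩

/-- a self-centralising subgroup of order `2^10` is not contained in a conjugate of `E` -/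
theorem not_le [Finite G] (C : J4Type.Compl G) {A : Subgroup G}
    (hcard : Nat.card A = 2 ^ 10) (hself : Subgroup.centralizer (A : Set G) = A) (g : G) :
    ¬ MulAut.conj g • A ≤ C.E hex0 := by
  intro h
  have h1 : MulAut.conj g⁻¹ • C.E hex0 ≤ A := by
    rw [← hself]
    intro x hx
    rw [mem_smul_iff, inv_inv] at hx
    rw [Subgroup.mem_centralizer_iff]
    intro a ha
    have h2 : g * a * g⁻¹ ∈ C.E hex0 := h (conj_mem_smul.2 ha)
    have h3 := (C.E_elem hex0 HexMax.hex0_isHex).2 _ h2 _ hx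
    calc a * x = g⁻¹ * (g * a * g⁻¹ * (g * x * g⁻¹)) * g := by group
      _ = g⁻¹ * (g * x * g⁻¹ * (g * a * g⁻¹)) * g := by rw [h3]
      _ = x * a := by group
  have h2 := Subgroup.card_le_of_le h1
  rw [Cfsg.Agent.H856.TwoEleven.card_smul, C.E_card hex0 HexMax.hex0_isHex, hcard] at h2
  omega

/-- the data -/
structure Good (A : Subgroup G) : Prop where
  elem : ∀ a ∈ A, a * a = 1
  card : Nat.card A = 2 ^ 10
  self : Subgroup.centralizer (A : Set G) = A
  conj : ∀ A' : Subgroup G, IsElem2 A' → Nat.card A' = 2 ^ 10 →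
    Subgroup.centralizer (A' : Set G) = A' → ∃ g : G, MulAut.conj g • A' = A
  compl : ∃ B : Subgroup G, B ≤ Subgroup.normalizer (A : Set G) ∧ B ⊓ A = ⊥ ∧
      B ⊔ A = Subgroup.normalizer (A : Set G) ∧
      Nonempty (B ≃* Matrix.SpecialLinearGroup (Fin 5) (ZMod 2))
  irred : ∀ W : Subgroup G, W ≤ A →
    Subgroup.normalizer (A : Set G) ≤ Subgroup.normalizer (W : Set G) → W = ⊥ ∨ W = A
  orbs : ∃ a b : G, a ∈ A ∧ b ∈ A ∧ (orb A a).ncard = 155 ∧ (orb A b).ncard = 868

theorem exists_good [Finite G] [IsSimpleGroup G] (hJ : Cfsg.IsOfJankoFourType G) :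
    ∃ A : Subgroup G, Good A := by
  obtain ⟨z, P, h⟩ := hJ
  obtain ⟨Q, N, M, H, -, -⟩ := Cfsg.Agent.H856.ToHyp.exists_hyp h
  obtain ⟨C, -, -, -⟩ := Cfsg.Agent.H856.Bridge.exists_compl_of_hyp H
  obtain ⟨X, E, hR, hA, hcard, hz, hd, hinj⟩ := exists_model C
  have ha1 : beta (bl E) 1 ≠ 1 := fun h1 => by
    have := hinj 1 (by norm_num) h1
    omega
  have hb1 : beta (bl E) 26 ≠ 1 := fun h1 => by
    have := hinj 26 (by norm_num) h1
    omega
  have hN := T10Norm.card_norm_le hR hA hcard hz hd ha1 hb1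
  have hab : ¬ IsConj (beta (bl E) 1) (beta (bl E) 26) := by
    obtain ⟨p, -, q, -, hpq, hb⟩ := hd
    intro h1
    rw [hb] at h1
    exact C.duad_not_conj p q hpq (hz.trans h1)
  refine ⟨A0 E, ?_, ?_, ?_, ?_, ?_, ?_, ?_⟩
  · rw [hA]
    exact AG_sq O0_mem
  · rw [hcard]; norm_num
  · rw [hA]
    exact AG_cent C O0_mem
  · intro A' hA' hc hs
    rw [hA]
    exact exists_eq C hA' hc (not_le C hc hs) O0_mem
  · exact T10Compl.exists_compl hR hinj hcard hN
  · intro W hW hNW
    exact T10Act.irred hR hcard hab ha1 hb1 hW hNW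
  · obtain ⟨h1, h2⟩ := ncard_orb hR hcard hab ha1 hb1
    exact ⟨_, _, beta_mem_A0 1, beta_mem_A0 26, h1, h2⟩

theorem normalizer_smul (g : G) (A : Subgroup G) :
    Subgroup.normalizer ((MulAut.conj g • A : Subgroup G) : Set G) =
      MulAut.conj g • Subgroup.normalizer (A : Set G) := by
  ext x
  rw [mem_normalizer_smul, mem_smul_iff]

/-- transport of the properties -/
theorem Good.smul [Finite G] {A : Subgroup G} (h : Good A) (g : G) : Good (MulAut.conj g • A) := by
  refine ⟨?_, ?_, ?_, ?_, ?_, ?_, ?_⟩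
  · intro a ha
    rw [mem_smul_iff] at ha
    have h1 := h.elem _ ha
    calc a * a = g * (g⁻¹ * a * g * (g⁻¹ * a * g)) * g⁻¹ := by group
      _ = 1 := by rw [h1]; group
  · rw [Cfsg.Agent.H856.TwoEleven.card_smul, h.card]
  · ext x
    rw [mem_smul_iff]
    conv_rhs => rw [← h.self]
    rw [Subgroup.mem_centralizer_iff, Subgroup.mem_centralizer_iff]
    constructor
    · intro hx a ha
      have h1 := hx (g * a * g⁻¹) (conj_mem_smul.2 ha)
      calc a * (g⁻¹ * x * g) = g⁻¹ * (g * a * g⁻¹ * x) * g := by group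
        _ = g⁻¹ * (x * (g * a * g⁻¹)) * g := by rw [h1]
        _ = _ := by group
    · intro hx a ha
      rw [SetLike.mem_coe, mem_smul_iff] at ha
      have h1 := hx _ ha
      calc a * x = g * (g⁻¹ * a * g * (g⁻¹ * x * g)) * g⁻¹ := by group
        _ = g * (g⁻¹ * x * g * (g⁻¹ * a * g)) * g⁻¹ := by rw [h1]
        _ = _ := by group
  · intro A' h1 h2 h3
    obtain ⟨k, hk⟩ := h.conj A' h1 h2 h3
    exact ⟨g * k, by rw [map_mul, mul_smul, hk]⟩
  · obtain ⟨B, h1, h2, h3, ⟨e⟩⟩ := h.compl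
    refine ⟨MulAut.conj g • B, ?_, ?_, ?_, ?_⟩
    · rw [normalizer_smul]
      exact Subgroup.pointwise_smul_le_pointwise_smul_iff.2 h1
    · rw [← Subgroup.smul_inf, h2, Subgroup.smul_bot]
    · rw [← Subgroup.smul_sup, h3, normalizer_smul]
    · exact ⟨(Subgroup.equivSMul (MulAut.conj g) B).symm.trans e⟩
  · intro W hW hN
    have h1 : MulAut.conj g⁻¹ • W ≤ A := by
      rw [map_inv, Subgroup.pointwise_smul_subset_iff, inv_inv]
      exact hW
    have h2 : Subgroup.normalizer (A : Set G) ≤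
        Subgroup.normalizer ((MulAut.conj g⁻¹ • W : Subgroup G) : Set G) := by
      rw [normalizer_smul]
      intro x hx
      rw [mem_smul_iff, inv_inv]
      apply hN
      rw [mem_normalizer_smul]
      have h3 : g⁻¹ * (g * x * g⁻¹) * g = x := by group
      rwa [h3]
    have h3 : W = MulAut.conj g • (MulAut.conj g⁻¹ • W) := by
      rw [map_inv, smul_inv_smul]
    rcases h.irred _ h1 h2 with h4 | h4
    · left
      rw [h3, h4, Subgroup.smul_bot]
    · right
      rw [h3, h4]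
  · obtain ⟨a, b, ha, hb, h1, h2⟩ := h.orbs
    refine ⟨g * a * g⁻¹, g * b * g⁻¹, conj_mem_smul.2 ha, conj_mem_smul.2 hb, ?_, ?_⟩
    · rw [ncard_orb_smul, h1]
    · rw [ncard_orb_smul, h2]

/-- every self-centralising elementary abelian subgroup of order `2^10` has these properties -/
theorem good_of [Finite G] {A A' : Subgroup G} (h : Good A) (h1 : IsElem2 A')
    (h2 : Nat.card A' = 2 ^ 10) (h3 : Subgroup.centralizer (A' : Set G) = A') : Good A' := by
  obtain ⟨g, hg⟩ := h.conj A' h1 h2 h3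
  have h4 : A' = MulAut.conj g⁻¹ • A := by rw [← hg, map_inv, inv_smul_smul]
  rw [h4]
  exact h.smul g⁻¹

end Cfsg.Agent.H857.T10Main
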