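import Cfsg.Agent.J4Type.DuadCent
import Cfsg.Agent.J4Type.FusionM22
import Cfsg.Agent.J4Type.FusionOne

/-!
# J₄ type: orders of elementary abelian subgroups of `M24` and of their preimages (helper857)

* `card_eq_mul` : `|V| = |V ∩ E| · |im V|` for `V ≤ N_G(E)`;
* `card_le_orbit`, `card_le_duad`, `card_le_128`.
-/

set_option autoImplicit false

open scoped Pointwise

namespace Cfsg.Agent.H857.Card

open Cfsg Cfsg.Agent.J4Type Cfsg.Agent.J4Type.CloseInst

variable {G : Type*} [Group G]

section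

variable (K : Frame G)

/-- the image in the symmetric group of a subgroup of `N_G(E)` -/
def im (K : Frame G) (V : Subgroup G) : Subgroup (Equiv.Perm GolayPt) :=
  ((V.subgroupOf (Subgroup.normalizer (K.E hex0 : Set G))).map K.π).map M24.subtype

theorem mem_im {V : Subgroup G} {g : Equiv.Perm GolayPt} : g ∈ im K V ↔
    ∃ n : Subgroup.normalizer (K.E hex0 : Set G), (n : G) ∈ V ∧ (K.π n : Equiv.Perm GolayPt) = g := by
  constructor
  · rintro ⟨_, ⟨n, hn, rfl⟩, rfl⟩
    exact ⟨n, hn, rfl⟩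
  · rintro ⟨n, hn, rfl⟩
    exact ⟨_, ⟨n, hn, rfl⟩, rfl⟩

theorem im_le (V : Subgroup G) : im K V ≤ M24 := by
  intro g hg
  obtain ⟨n, -, rfl⟩ := (mem_im K).1 hg
  exact (K.π n).2

theorem im_sq {V : Subgroup G} (hV : ∀ v ∈ V, v * v = 1) : ∀ g ∈ im K V, g * g = 1 := by
  intro g hg
  obtain ⟨n, hn, rfl⟩ := (mem_im K).1 hg
  have h1 : n * n = 1 := Subtype.ext (hV _ hn)
  have h2 : K.π n * K.π n = 1 := by rw [← map_mul, h1, map_one]
  exact congrArg Subtype.val h2

/-- `|V| = |V ∩ E| · |im V|` for `V ≤ N_G(E)` -/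
theorem card_eq_mul {V : Subgroup G} (hV : V ≤ Subgroup.normalizer (K.E hex0 : Set G)) :
    Nat.card V = Nat.card (V ⊓ K.E hex0 : Subgroup G) * Nat.card (im K V) := by
  let f : V →* M24 := K.π.comp (Subgroup.inclusion hV)
  have h1 : Nat.card V = Nat.card f.ker * Nat.card f.range := by
    rw [← f.ker.card_mul_index]
    congr 1
    exact Subgroup.index_ker f
  have h2 : Nat.card f.ker = Nat.card (V ⊓ K.E hex0 : Subgroup G) := by
    refine Nat.card_congr
      { toFun := fun x => ⟨(x : V), (x : V).2, (K.π_ker _).1 x.2⟩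
        invFun := fun x => ⟨⟨x, x.2.1⟩, (K.π_ker ⟨x, hV x.2.1⟩).2 x.2.2⟩
        left_inv := fun x => rfl
        right_inv := fun x => rfl }
  have h3 : Nat.card f.range = Nat.card (im K V) := by
    have e : im K V = f.range.map M24.subtype := by
      ext g
      rw [mem_im]
      constructor
      · rintro ⟨n, hn, rfl⟩
        exact ⟨_, ⟨⟨n, hn⟩, rfl⟩, rfl⟩
      · rintro ⟨_, ⟨v, rfl⟩, rfl⟩
        exact ⟨⟨v, hV v.2⟩, v.2, rfl⟩
    rw [e]
    exact Nat.card_congr (f.range.equivMapOfInjective _ (Subgroup.subtype_injective _)).toEquiv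
  rw [h1, h2, h3]

end

/-- an elementary abelian 2-subgroup of `M24` fixing a duad has order at most 32 -/
theorem card_le_duad (S : Subgroup (Equiv.Perm GolayPt)) (hS : S ≤ M24) (hel : ∀ g ∈ S, g * g = 1)
    {p q : GolayPt} (hf : ∀ g ∈ S, g p = p ∨ g p = q) : Nat.card S ≤ 32 := by
  classical
  let S0 : Subgroup (Equiv.Perm GolayPt) := S ⊓ MulAction.stabilizer (Equiv.Perm GolayPt) p
  have h0 : Nat.card S0 ≤ 16 := by
    apply FusionM22.card_le S0 (inf_le_left.trans hS) (fun g hg => hel g hg.1) (p₀ := p)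
    intro g hg
    exact hg.2
  have h1 := FusionOne.card_le_two_mul S (MulAction.stabilizer (Equiv.Perm GolayPt) p) (by
    intro a ha b hb hap hbp
    have ha' : a p = q := (hf a ha).resolve_left hap
    have hb' : b p = q := (hf b hb).resolve_left hbp
    show a⁻¹ (b p) = p
    rw [hb', ← ha']
    simp)
  have h2 : Nat.card (S ⊓ MulAction.stabilizer (Equiv.Perm GolayPt) p : Subgroup _) ≤ 16 := h0
  omega

/-- orbit and stabiliser -/
theorem card_le_orbit (S : Subgroup (Equiv.Perm GolayPt)) (p : GolayPt) (F : Finset GolayPt)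
    (hF : ∀ g ∈ S, g p ∈ F) :
    Nat.card S ≤ F.card * Nat.card (S ⊓ MulAction.stabilizer (Equiv.Perm GolayPt) p : Subgroup _) := by
  classical
  have h1 := Nat.card_congr (MulAction.orbitProdStabilizerEquivGroup S p)
  rw [Nat.card_prod] at h1
  have h2 : Nat.card (MulAction.orbit S p) ≤ F.card := by
    have : Nat.card (MulAction.orbit S p) ≤ Nat.card F := by
      refine Nat.card_le_card_of_injective (fun x => (⟨x.1, ?_⟩ : F)) ?_
      · obtain ⟨g, hg⟩ := x.2
        rw [← hg]
        exact hF _ g.2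
      · intro x y h
        exact Subtype.ext (congrArg (fun u : F => (u : GolayPt)) h)
    simpa using this
  have h3 : Nat.card (MulAction.stabilizer S p) =
      Nat.card (S ⊓ MulAction.stabilizer (Equiv.Perm GolayPt) p : Subgroup _) := by
    refine Nat.card_congr
      { toFun := fun x => ⟨((x : S) : Equiv.Perm GolayPt), (x : S).2, x.2⟩
        invFun := fun x => ⟨⟨x, x.2.1⟩, x.2.2⟩
        left_inv := fun x => rfl
        right_inv := fun x => rfl }
  rw [← h1, h3]
  exact Nat.mul_le_mul_right _ h2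

theorem comm_of_sq {H : Type*} [Group H] {S : Subgroup H} (hel : ∀ g ∈ S, g * g = 1) :
    ∀ a ∈ S, ∀ b ∈ S, a * b = b * a := by
  intro a ha b hb
  have h1 := hel _ (S.mul_mem ha hb)
  have h2 : a⁻¹ = a := inv_eq_of_mul_eq_one_left (hel a ha)
  have h3 : b⁻¹ = b := inv_eq_of_mul_eq_one_left (hel b hb)
  calc a * b = (a * b)⁻¹ := (inv_eq_of_mul_eq_one_left h1).symm
    _ = b * a := by rw [mul_inv_rev, h2, h3]

/-- an elementary abelian 2-subgroup of `M24` has order at most `2 ^ 7` -/
theorem card_le_128 (S : Subgroup (Equiv.Perm GolayPt)) (hS : S ≤ M24) (hel : ∀ g ∈ S, g * g = 1) :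
    Nat.card S ≤ 128 := by
  classical
  have hcomm := comm_of_sq hel
  by_cases h : ∃ u ∈ S, u ≠ 1 ∧ ∃ p, u p = p
  · obtain ⟨u, hu, hu1, p, hp⟩ := h
    have h8 := FusionM22.card_fix (hS hu) (hel u hu) hu1 hp
    have h1 := card_le_orbit S p (Finset.univ.filter fun p : GolayPt => u p = p) (by
      intro g hg
      rw [Finset.mem_filter]
      refine ⟨Finset.mem_univ _, ?_⟩
      rw [← Equiv.Perm.mul_apply, hcomm u hu g hg, Equiv.Perm.mul_apply, hp])
    have h2 : Nat.card (S ⊓ MulAction.stabilizer (Equiv.Perm GolayPt) p : Subgroup _) ≤ 16 :=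
      FusionM22.card_le _ (inf_le_left.trans hS) (fun g hg => hel g hg.1) (p₀ := p)
        (fun g hg => hg.2)
    rw [h8] at h1
    omega
  · push Not at h
    have h1 := card_le_orbit S none Finset.univ (fun g _ => Finset.mem_univ _)
    have h2 : (S ⊓ MulAction.stabilizer (Equiv.Perm GolayPt) (none : GolayPt) : Subgroup _) = ⊥ := by
      rw [eq_bot_iff]
      intro g hg
      rw [Subgroup.mem_bot]
      by_contra hg1
      exact h g hg.1 hg1 none hg.2
    rw [h2, Finset.card_univ, HexMax.card24, Subgroup.card_bot] at h1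
    omega

end Cfsg.Agent.H857.Card
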