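import Cfsg.Agent.H857.WGrp
import Cfsg.Agent.H857.Card

/-!
# Elementary abelian subgroups of order `2^10` of `N_G(E)` not contained in `E` (helper857)

`classify` : such a subgroup induces on the 24 points the pointwise stabiliser of an octad `O`, and meets `E` in `W(O)`.
-/

set_option autoImplicit false

open scoped Pointwise

namespace Cfsg.Agent.H857.Classify

open Cfsg Cfsg.Agent.SporadicA.GolayBase Cfsg.Agent.SporadicA.OctadFix
open Cfsg.Agent.J4Type Cfsg.Agent.J4Type.CocodeMask Cfsg.Agent.J4Type.TauM24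
open Cfsg.Agent.J4Type.TauMask Cfsg.Agent.J4Type.FrameDefs
open Cfsg.Agent.J4.M24InvolData Cfsg.Agent.J4.M24Invol
open Cfsg.Agent.H857.Fix Cfsg.Agent.H857.WGrp Cfsg.Agent.H857.Card

/-! ### `M24` -/

/-- the fixed points of an involution with a fixed point form an octad -/
theorem fix_octad {u : Equiv.Perm GolayPt} (hM : u ∈ M24) (hu : u * u = 1) (h1 : u ≠ 1)
    {p₀ : GolayPt} (hp₀ : u p₀ = p₀) : (Finset.univ.filter fun p : GolayPt => u p = p) ∈ octads := by
  obtain ⟨a, ha⟩ := invol_conj ⟨u, hM⟩ (Subtype.ext hu) (fun h => h1 (congrArg Subtype.val h))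
  have key : ∀ (v : M24), a * ⟨u, hM⟩ * a⁻¹ = v → ∀ p : GolayPt, u p = p ↔ v • (a • p) = a • p := by
    intro v hv p
    rw [← hv, mul_smul, mul_smul, inv_smul_smul, smul_left_cancel_iff]
    exact Iff.rfl
  rcases ha with ha | ha
  · have h2 : (Finset.univ.filter fun p : GolayPt => u p = p) = (a⁻¹ : M24) •
        (Finset.univ.filter fun p : GolayPt =>
          pt (Cfsg.Agent.SporadicA.GolayPerm.papp P1 (idx p)) = p) := by
      ext p
      rw [Finset.mem_inv_smul_finset_iff, Finset.mem_filter, Finset.mem_filter, key _ ha p,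
        Cfsg.Agent.SporadicStructure.M24El.el_smul_pt ok_P1]
      simp only [Finset.mem_univ, true_and]
    rw [h2]
    exact Cfsg.Agent.SporadicStructure.OctadStabM24.smul_octad (a⁻¹ : M24).2 FusionFact.fix_P1_octad
  · exfalso
    have := (key _ ha p₀).1 hp₀
    rw [Cfsg.Agent.SporadicStructure.M24El.el_smul_pt ok_P2] at this
    exact FusionM22.fix_P2 _ this

theorem smul_eq_of_mapsTo {O : Finset GolayPt} {g : Equiv.Perm GolayPt} (h : ∀ x ∈ O, g x ∈ O) :
    g • O = O := by
  apply Finset.eq_of_subset_of_card_le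
  · intro y hy
    obtain ⟨x, hx, rfl⟩ := Finset.mem_smul_finset.1 hy
    exact h x hx
  · rw [Finset.card_smul_finset]

/-- an element acting nontrivially on an octad is not a transposition on it -/
theorem exists_yz {O : Finset GolayPt} (hO : O ∈ octads) {g : Equiv.Perm GolayPt} (hM : g ∈ M24)
    (hg : g * g = 1) (hgO : g • O = O) {x : GolayPt} (hx : x ∈ O) (hgx : g x ≠ x) :
    ∃ y ∈ O, ∃ z ∈ O, x ≠ y ∧ x ≠ z ∧ y ≠ z ∧ g x ≠ y ∧ g x ≠ z ∧ g y ≠ y ∧ g y ≠ z := by
  classical
  have hO8 : O.card = 8 := octad_card hO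
  have hst := FusionM22.mem_iff_of_smul_eq hgO
  have hgg : ∀ p, g (g p) = p := fun p => by rw [← Equiv.Perm.mul_apply, hg]; rfl
  have hgxO : g x ∈ O := (hst x).2 hx
  have h1 : g x ∈ O.erase x := Finset.mem_erase.2 ⟨hgx, hgxO⟩
  have hO6 : ((O.erase x).erase (g x)).card = 6 := by
    rw [Finset.card_erase_of_mem h1, Finset.card_erase_of_mem hx, hO8]
  by_cases hall : ∀ y ∈ (O.erase x).erase (g x), g y = y
  · exfalso
    obtain ⟨p, hp, q, hq, hpq⟩ := Finset.one_lt_card.1 (show 1 < ((O.erase x).erase (g x)).card by omega)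
    have hpO := Finset.mem_of_mem_erase (Finset.mem_of_mem_erase hp)
    have hqO := Finset.mem_of_mem_erase (Finset.mem_of_mem_erase hq)
    have h2 := FusionM22.card_fix_octad hO hM (fun y _ => hgg y) hgO hpO hqO hpq (hall p hp) (hall q hq)
      (fun h => hgx (h x hx))
    have h3 : ((O.erase x).erase (g x)).card ≤ (Finset.univ.filter fun y : ↥O => g y = y).card := by
      apply Finset.card_le_card_of_injOn
        (fun y => if hy : y ∈ O then (⟨y, hy⟩ : ↥O) else ⟨x, hx⟩)
      · intro y hy
        rw [Finset.mem_coe] at hy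
        have hyO := Finset.mem_of_mem_erase (Finset.mem_of_mem_erase hy)
        simp only [Finset.coe_filter, Finset.mem_univ, true_and, Set.mem_ofPred_eq, dif_pos hyO]
        exact hall y hy
      · intro y hy y' hy' h
        rw [Finset.mem_coe] at hy hy'
        have hyO := Finset.mem_of_mem_erase (Finset.mem_of_mem_erase hy)
        have hyO' := Finset.mem_of_mem_erase (Finset.mem_of_mem_erase hy')
        simp only [dif_pos hyO, dif_pos hyO'] at h
        exact congrArg Subtype.val h
    omega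
  · push Not at hall
    obtain ⟨y, hy, hgy⟩ := hall
    rw [Finset.mem_erase, Finset.mem_erase] at hy
    obtain ⟨hy1, hy2, hyO⟩ := hy
    have hgyO : g y ∈ O := (hst y).2 hyO
    obtain ⟨z, hz, hzn⟩ : ∃ z ∈ O, z ∉ ({x, g x, y, g y} : Finset GolayPt) := by
      by_contra hno
      push Not at hno
      have h4 := Finset.card_le_card (fun z hz => hno z hz : O ⊆ {x, g x, y, g y})
      have h5 := Finset.card_le_four (a := x) (b := g x) (c := y) (d := g y)
      omega
    simp only [Finset.mem_insert, Finset.mem_singleton, not_or] at hzn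
    exact ⟨y, hyO, z, hz, fun h => hy2 h.symm, fun h => hzn.1 h.symm, fun h => hzn.2.2.1 h.symm,
      fun h => hy1 h.symm, fun h => hzn.2.1 h.symm, hgy, fun h => hzn.2.2.2 h.symm⟩

/-- an involution commuting with the pointwise stabiliser of an octad lies in it -/
theorem mem_fixOct_of_comm {O : Finset GolayPt} (hO : O ∈ octads) {g : Equiv.Perm GolayPt}
    (hM : g ∈ M24) (hg : g * g = 1) (hgO : g • O = O) (hcomm : ∀ a ∈ fixOct O, a * g = g * a) :
    g ∈ fixOct O := by
  classical
  obtain ⟨p, hp⟩ := FusionComm.exists_out hO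
  obtain ⟨t, ht, htp⟩ := FusionComm.exists_translate hO hgO hp
  have h1 : t * g * (t * g) = 1 := by
    have h2 := fixOct_sq hO ht
    calc t * g * (t * g) = t * (g * t) * g := by group
      _ = t * (t * g) * g := by rw [← hcomm t ht]
      _ = (t * t) * (g * g) := by group
      _ = 1 := by rw [h2, hg, mul_one]
  have h3 : ∀ q, q ∉ O → (t * g) q = q := by
    intro q hq
    obtain ⟨a, ⟨ha, hap⟩, -⟩ := existsUnique_fixOct hO hp hq
    have h4 : t * g * a = a * (t * g) := by
      rw [mul_assoc, ← hcomm a ha, ← mul_assoc, FusionComm.fixOct_comm hO ht ha, mul_assoc]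
    rw [← hap, ← Equiv.Perm.mul_apply, h4, Equiv.Perm.mul_apply, htp]
  have h5 : t * g = 1 := by
    by_contra hne
    have h6 := FusionM22.card_fix (M24.mul_mem (mem_fixOct.1 ht).1 hM) h1 hne htp
    have h7 : (Finset.univ \ O).card ≤ (Finset.univ.filter fun p : GolayPt => (t * g) p = p).card := by
      apply Finset.card_le_card
      intro q hq
      rw [Finset.mem_sdiff] at hq
      rw [Finset.mem_filter]
      exact ⟨Finset.mem_univ _, h3 q hq.2⟩
    rw [Finset.card_sdiff_of_subset (Finset.subset_univ _), Finset.card_univ, HexMax.card24,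
      octad_card hO] at h7
    omega
  rw [eq_inv_of_mul_eq_one_right h5]
  exact (fixOct O).inv_mem ht

/-- a semiregular elementary abelian 2-subgroup has order at most 8 -/
theorem card_semireg (B : Subgroup (Equiv.Perm GolayPt)) (hsq : ∀ b ∈ B, b * b = 1)
    (hfree : ∀ b ∈ B, b ≠ 1 → ∀ p, b p ≠ p) : Nat.card B ≤ 8 := by
  classical
  let _ : Fintype B := Fintype.ofFinite B
  have hB := MulAction.sum_card_fixedBy_eq_card_orbits_mul_card_group B GolayPt
  have hf : ∀ g : B, Fintype.card (MulAction.fixedBy GolayPt g) = if g = 1 then 24 else 0 := by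
    intro g
    rw [Fintype.card_subtype]
    split_ifs with h
    · subst h
      simp only [MulAction.mem_fixedBy, one_smul]
      decide +kernel
    · rw [Finset.card_eq_zero, Finset.filter_eq_empty_iff]
      intro p _ hp
      exact hfree _ g.2 (fun h' => h (Subtype.ext h')) p hp
  rw [Finset.sum_congr rfl (fun g _ => hf g), Finset.sum_ite_eq' Finset.univ (1 : B),
    if_pos (Finset.mem_univ _)] at hB
  have h1 : Nat.card B ∣ 24 := by
    rw [Nat.card_eq_fintype_card, hB]
    exact Dvd.intro_left _ rfl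
  obtain ⟨k, hk⟩ := IsPGroup.iff_card.1 (FusionFact.isPGroup_of_sq hsq)
  rw [hk] at h1 ⊢
  have h2 : 2 ^ k ∣ 8 := by
    have h3 : Nat.Coprime (2 ^ k) 3 := Nat.Coprime.pow_left k (by norm_num)
    exact h3.dvd_of_dvd_mul_right (by norm_num; exact h1)
  exact Nat.le_of_dvd (by norm_num) h2

/-! ### The classification -/

variable {G : Type*} [Group G]

/-- a subgroup of `E` centralised by an element inducing a fixed point free involution -/
theorem card_le_of_free [Finite G] {F : Frame G} {n : NE F} (h1 : F.π n * F.π n = 1)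
    (hfree : ∀ p, (F.π n : Equiv.Perm GolayPt) p ≠ p) {D : Subgroup G} (hD : D ≤ F.E hex0)
    (hc : ∀ d ∈ D, (n : G) * d = d * n) : Nat.card D ≤ 64 := by
  classical
  have h2 := card_fixed_le h1 hfree
  have key : ∀ d : D, ∃ s, (s ∈ (Finset.range 4096).filter fun s =>
      ev s = true ∧ act (F.π n) s = s) ∧ (c F s : G) = d := by
    intro d
    obtain ⟨s, hs, h⟩ := exists_c F (hD d.2)
    refine ⟨s, ?_, h⟩
    rw [Finset.mem_filter, Finset.mem_range]
    refine ⟨((ev_iff s).1 hs).1, hs, ?_⟩
    have h3 := conj_c F n hs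
    rw [h, hc d d.2, mul_inv_cancel_right, ← h] at h3
    exact (c_inj F hs (ev_act _ hs) h3).symm
  choose f hf1 hf2 using key
  refine le_trans ?_ h2
  set Z : Finset ℕ := (Finset.range 4096).filter fun s => ev s = true ∧ act (F.π n) s = s with hZ
  have h4 : Nat.card D ≤ Nat.card Z :=
    Nat.card_le_card_of_injective (fun d => (⟨f d, hf1 d⟩ : Z)) (fun a b h => by
      have h' : f a = f b := congrArg Subtype.val h
      apply Subtype.ext
      rw [← hf2 a, ← hf2 b, h'])
  rwa [Nat.card_eq_fintype_card (α := Z), Fintype.card_coe] at h4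

theorem arith {d b w β S x : ℕ} (hdb : d * b = 1024) (h1 : d ≤ 2 * w) (h2 : 4 ≤ β → d ≤ w)
    (h3 : w ≤ 16) (h4 : 4 ≤ x → w ≤ 8) (h5 : b ≤ x * S) (h6 : S ≤ 4 * β) (h7 : 8 ≤ β → S ≤ β)
    (h8 : x = 8 → S ≤ β) (hβ : β = 2 ∨ β = 4 ∨ β = 8) (hx : x = 2 ∨ x = 4 ∨ x = 8) : False := by
  have key : ∀ d0 b0 : ℕ, d ≤ d0 → b ≤ b0 → d0 * b0 < 1024 → False := by
    intro d0 b0 hd hb h
    have := Nat.mul_le_mul hd hb
    omega
  rcases hβ with rfl | rfl | rfl <;> rcases hx with rfl | rfl | rfl
  · exact key 32 16 (by omega) (by omega) (by norm_num)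
  · exact key 16 32 (by omega) (by omega) (by norm_num)
  · exact key 16 16 (by omega) (by omega) (by norm_num)
  · exact key 16 32 (by omega) (by omega) (by norm_num)
  · exact key 8 64 (by omega) (by omega) (by norm_num)
  · exact key 8 32 (by omega) (by omega) (by norm_num)
  · exact key 16 16 (by omega) (by omega) (by norm_num)
  · exact key 8 32 (by omega) (by omega) (by norm_num)
  · exact key 8 64 (by omega) (by omega) (by norm_num)

theorem classify [Finite G] (F : Frame G) {V : Subgroup G} (hV : ∀ a ∈ V, a * a = 1)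
    (hVN : V ≤ Subgroup.normalizer (F.E hex0 : Set G)) (hcard : Nat.card V = 2 ^ 10)
    (hVE : ¬ V ≤ F.E hex0) : ∃ O ∈ octads, im F V = fixOct O ∧ V ⊓ F.E hex0 = WG F O := by
  classical
  have hBM : im F V ≤ M24 := im_le F V
  have hBsq : ∀ b ∈ im F V, b * b = 1 := im_sq F hV
  have hVcomm := comm_of_sq hV
  have hBcomm := comm_of_sq hBsq
  have hmul : Nat.card (V ⊓ F.E hex0 : Subgroup G) * Nat.card (im F V) = 1024 := by
    rw [← card_eq_mul F hVN, hcard]; norm_num
  have hlift : ∀ b ∈ im F V, ∃ n : NE F, (n : G) ∈ V ∧ (F.π n : Equiv.Perm GolayPt) = b :=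
    fun b hb => (mem_im F).1 hb
  have hDc : ∀ n : NE F, (n : G) ∈ V → ∀ d ∈ V ⊓ F.E hex0, (n : G) * d = d * n :=
    fun n hn d hd => hVcomm _ hn _ hd.1
  obtain ⟨n0, hn0V, hn0E⟩ := SetLike.not_le_iff_exists.1 hVE
  by_cases hfix : ∃ u ∈ im F V, u ≠ 1 ∧ ∃ p, u p = p
  swap
  · -- semiregular case
    exfalso
    push Not at hfix
    have h1 := card_semireg (im F V) hBsq hfix
    have h2 : (F.π ⟨n0, hVN hn0V⟩ : Equiv.Perm GolayPt) ∈ im F V := (mem_im F).2 ⟨_, hn0V, rfl⟩
    have h3 : (F.π ⟨n0, hVN hn0V⟩ : Equiv.Perm GolayPt) ≠ 1 := by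
      intro h
      exact hn0E ((F.π_ker ⟨n0, hVN hn0V⟩).1 (Subtype.ext h))
    have h4 : Nat.card (V ⊓ F.E hex0 : Subgroup G) ≤ 64 := by
      apply card_le_of_free (n := ⟨n0, hVN hn0V⟩) (Subtype.ext (hBsq _ h2)) (hfix _ h2 h3) inf_le_right
      exact hDc _ hn0V
    have := Nat.mul_le_mul h4 h1
    omega
  · obtain ⟨u, huB, hu1, p, hup⟩ := hfix
    have hO := fix_octad (hBM huB) (hBsq u huB) hu1 hup
    set O : Finset GolayPt := Finset.univ.filter fun p : GolayPt => u p = p with hOdef
    have hmemO : ∀ x, x ∈ O ↔ u x = x := by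
      intro x
      rw [hOdef, Finset.mem_filter]
      simp
    have huO : u ∈ fixOct O := mem_fixOct.2 ⟨hBM huB, fun x hx => (hmemO x).1 hx⟩
    have hst : ∀ b ∈ im F V, b • O = O := by
      intro b hb
      apply smul_eq_of_mapsTo
      intro x hx
      rw [hmemO] at hx ⊢
      rw [← Equiv.Perm.mul_apply, hBcomm u huB b hb, Equiv.Perm.mul_apply, hx]
    obtain ⟨nu, hnuV, hnu⟩ := hlift u huB
    have hnu1 : F.π nu ≠ 1 := fun h => hu1 (by rw [← hnu, h]; rfl)
    obtain ⟨q, hq⟩ := FusionComm.exists_out hO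
    have hD1 : Nat.card (V ⊓ F.E hex0 : Subgroup G) ≤
        2 * Nat.card (V ⊓ F.E hex0 ⊓ WG F O : Subgroup G) := by
      apply FusionOne.card_le_two_mul
      intro a ha b hb haW hbW
      have h1 := (cases_of_comm hO (hnu ▸ huO) hnu1 hq ha.2 (hDc nu hnuV a ha)).resolve_left haW
      have h2 := (cases_of_comm hO (hnu ▸ huO) hnu1 hq hb.2 (hDc nu hnuV b hb)).resolve_left hbW
      have h3 := (WG F O).mul_mem ((WG F O).inv_mem h1) h2
      have hne : q ≠ (F.π nu : Equiv.Perm GolayPt) q := by
        intro h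
        apply hnu1
        exact Subtype.ext (OctadFixTrans.eq_one_of_fix hO (hnu ▸ huO) hq h.symm)
      have hεE := F.ε_mem {q, (F.π nu : Equiv.Perm GolayPt) q} (even_pair' hne)
      have h4 := (F.E_elem hex0 HexMax.hex0_isHex).2 _ ((F.E hex0).mul_mem ((F.E hex0).inv_mem ha.2) hb.2)
        _ hεE
      have h5 := ε_sq F (even_pair' hne)
      have e : (a * F.ε {q, (F.π nu : Equiv.Perm GolayPt) q})⁻¹ *
          (b * F.ε {q, (F.π nu : Equiv.Perm GolayPt) q}) = a⁻¹ * b := by
        rw [mul_inv_rev, mul_assoc, ← mul_assoc a⁻¹, h4, ← mul_assoc, inv_mul_cancel, one_mul]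
      rwa [e] at h3
    have hD2 : 4 ≤ Nat.card (im F V ⊓ fixOct O : Subgroup (Equiv.Perm GolayPt)) →
        V ⊓ F.E hex0 ≤ WG F O := by
      intro h4 d hd
      obtain ⟨a, ha, b, hb, ha1, hb1, hab⟩ := FusionFact.exists_two_of_card h4
      obtain ⟨na, hna, hna'⟩ := hlift a ha.1
      obtain ⟨nb, hnb, hnb'⟩ := hlift b hb.1
      exact mem_WG_of_comm hO (n := na) (m := nb) (hna' ▸ ha.2)
        (fun h => ha1 (by rw [← hna', h]; rfl)) (hnb' ▸ hb.2) (fun h => hb1 (by rw [← hnb', h]; rfl))
        (fun h => hab (by rw [← hna', ← hnb', h])) hd.2 (hDc na hna d hd) (hDc nb hnb d hd)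
    have hW64 := card_WG_le (F := F) hO
    have hβ : Nat.card (im F V ⊓ fixOct O : Subgroup (Equiv.Perm GolayPt)) = 2 ∨
        Nat.card (im F V ⊓ fixOct O : Subgroup (Equiv.Perm GolayPt)) = 4 ∨
        Nat.card (im F V ⊓ fixOct O : Subgroup (Equiv.Perm GolayPt)) = 8 ∨
        Nat.card (im F V ⊓ fixOct O : Subgroup (Equiv.Perm GolayPt)) = 16 := by
      have h1 : Nat.card (im F V ⊓ fixOct O : Subgroup (Equiv.Perm GolayPt)) ∣ 2 ^ 4 := by
        have := Subgroup.card_dvd_of_le (inf_le_right : im F V ⊓ fixOct O ≤ fixOct O)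
        rwa [card_fixOct hO] at this
      have h2 : 1 < Nat.card (im F V ⊓ fixOct O : Subgroup (Equiv.Perm GolayPt)) := by
        rw [Subgroup.one_lt_card_iff_ne_bot]
        intro h
        have h3 : u ∈ im F V ⊓ fixOct O := ⟨huB, huO⟩
        rw [h, Subgroup.mem_bot] at h3
        exact hu1 h3
      obtain ⟨k, hk, h3⟩ := (Nat.dvd_prime_pow Nat.prime_two).1 h1
      rw [h3] at h2 ⊢
      interval_cases k
      · norm_num at h2
      · left; norm_num
      · right; left; norm_num
      · right; right; left; norm_num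
      · right; right; right; norm_num
    by_cases hin : im F V ≤ fixOct O
    · rw [inf_eq_left.2 hin] at hβ hD2
      have hDW : Nat.card (V ⊓ F.E hex0 ⊓ WG F O : Subgroup G) ≤ 64 :=
        (Nat.card_le_card_of_injective _ (Subgroup.inclusion_injective inf_le_right)).trans hW64
      rcases hβ with h | h | h | h
      · exfalso
        rw [h] at hmul
        omega
      · exfalso
        rw [h] at hmul
        have := Subgroup.card_le_of_le (hD2 (by omega))
        omega
      · exfalso
        rw [h] at hmul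
        have := Subgroup.card_le_of_le (hD2 (by omega))
        omega
      · refine ⟨O, hO, ?_, ?_⟩
        · exact Subgroup.eq_of_le_of_card_ge hin (by rw [h, card_fixOct hO])
        · apply Subgroup.eq_of_le_of_card_ge (hD2 (by omega))
          rw [h] at hmul
          omega
    · exfalso
      obtain ⟨c, hcB, hcO⟩ := SetLike.not_le_iff_exists.1 hin
      obtain ⟨x, hx, hcx⟩ : ∃ x ∈ O, c x ≠ x := by
        by_contra hno
        push Not at hno
        exact hcO (mem_fixOct.2 ⟨hBM hcB, hno⟩)
      obtain ⟨y, hy, z, hz, hxy, hxz, hyz, hc1, hc2, hc3, hc4⟩ :=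
        exists_yz hO (hBM hcB) (hBsq c hcB) (hst c hcB) hx hcx
      obtain ⟨nc, hncV, hnc⟩ := hlift c hcB
      have hcc : ∀ p, c (c p) = p := fun p => by
        rw [← Equiv.Perm.mul_apply, hBsq c hcB]; rfl
      have hcxO : c x ∈ O := (FusionM22.mem_iff_of_smul_eq (hst c hcB) x).2 hx
      have h16 := four_mul_card (F := F) (n := nc) hx hy hz hxy hxz hyz (by rwa [hnc]) (by rwa [hnc])
        (by rwa [hnc]) (by rwa [hnc]) (by rwa [hnc])
      have hDW16 : Nat.card (V ⊓ F.E hex0 ⊓ WG F O : Subgroup G) ≤ 16 := by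
        have h1 : V ⊓ F.E hex0 ⊓ WG F O ≤ WG F O ⊓ Subgroup.centralizer ({(nc : G)} : Set G) := by
          intro d hd
          exact ⟨hd.2, Subgroup.mem_centralizer_singleton_iff.2 (hDc nc hncV d hd.1).symm⟩
        have h2 := Subgroup.card_le_of_le h1
        omega
      let S : Subgroup (Equiv.Perm GolayPt) :=
        im F V ⊓ MulAction.stabilizer (Equiv.Perm GolayPt) x
      have hSx : ∀ s ∈ S, s x = x := fun s hs => hs.2
      have hScx : ∀ s ∈ S, s (c x) = c x := by
        intro s hs
        rw [← Equiv.Perm.mul_apply, hBcomm s hs.1 c hcB, Equiv.Perm.mul_apply, hSx s hs]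
      have hSle : S ⊓ fixOct O ≤ im F V ⊓ fixOct O := inf_le_inf inf_le_left le_rfl
      have hS4 : Nat.card S ≤ 4 * Nat.card (im F V ⊓ fixOct O : Subgroup (Equiv.Perm GolayPt)) := by
        have h1 := FusionM22.card_le_four_mul S (inf_le_left.trans hBM) (fun g hg => hBsq g hg.1) hO
          (fun g hg => hst g hg.1) hx hcxO (Ne.symm hcx) hSx hScx
        have h2 := Subgroup.card_le_of_le hSle
        omega
      have hSfix : S ≤ fixOct O →
          Nat.card S ≤ Nat.card (im F V ⊓ fixOct O : Subgroup (Equiv.Perm GolayPt)) := by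
        intro h
        exact Subgroup.card_le_of_le (le_inf inf_le_left h)
      have hS8 : 8 ≤ Nat.card (im F V ⊓ fixOct O : Subgroup (Equiv.Perm GolayPt)) →
          Nat.card S ≤ Nat.card (im F V ⊓ fixOct O : Subgroup (Equiv.Perm GolayPt)) := by
        intro h8
        apply hSfix
        intro s hs
        by_contra hsO
        have h1 := FusionComm.card_comm_le_four hO (im F V ⊓ fixOct O) inf_le_right
          (hBM hs.1) (hst s hs.1) (fun a ha => hBcomm a ha.1 s hs.1) hx hcxO (Ne.symm hcx)
          (hSx s hs) (hScx s hs)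
          (fun w _ => by rw [← Equiv.Perm.mul_apply, hBsq s hs.1]; rfl)
          (fun h => hsO (mem_fixOct.2 ⟨hBM hs.1, h⟩))
        omega
      have h16' : Nat.card (im F V ⊓ fixOct O : Subgroup (Equiv.Perm GolayPt)) ≠ 16 := by
        intro h
        have h1 : im F V ⊓ fixOct O = fixOct O :=
          Subgroup.eq_of_le_of_card_ge inf_le_right (by rw [h, card_fixOct hO])
        have h2 : fixOct O ≤ im F V := by rw [← h1]; exact inf_le_left
        exact hcO (mem_fixOct_of_comm hO (hBM hcB) (hBsq c hcB) (hst c hcB)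
          (fun a ha => hBcomm a (h2 ha) c hcB))
      -- the orbit of `x`
      let X : Finset GolayPt := O.filter fun w => ∃ b ∈ im F V, b x = w
      have hXO : X ⊆ O := Finset.filter_subset _ _
      have hXmem : ∀ b ∈ im F V, b x ∈ X := by
        intro b hb
        rw [Finset.mem_filter]
        exact ⟨(FusionM22.mem_iff_of_smul_eq (hst b hb) x).2 hx, b, hb, rfl⟩
      have hbX : Nat.card (im F V) ≤ X.card * Nat.card S := card_le_orbit _ x X hXmem
      have hXcard : X.card = 2 ∨ X.card = 4 ∨ X.card = 8 := by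
        have h1 : Nat.card (MulAction.orbit (im F V) x) = X.card := by
          have h2 : (MulAction.orbit (im F V) x : Set GolayPt) = (X : Set GolayPt) := by
            ext w
            constructor
            · rintro ⟨b, rfl⟩
              exact hXmem b b.2
            · intro hw
              rw [Finset.mem_coe, Finset.mem_filter] at hw
              obtain ⟨-, b, hb, rfl⟩ := hw
              exact ⟨⟨b, hb⟩, rfl⟩
          rw [h2]
          simp
        have h3 : X.card ∣ Nat.card (im F V) := by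
          rw [← h1, ← Nat.card_congr (MulAction.orbitProdStabilizerEquivGroup (im F V) x), Nat.card_prod]
          exact Dvd.intro _ rfl
        obtain ⟨k, hk⟩ := IsPGroup.iff_card.1 (FusionFact.isPGroup_of_sq hBsq)
        rw [hk] at h3
        obtain ⟨j, -, hj⟩ := (Nat.dvd_prime_pow Nat.prime_two).1 h3
        have h4 : X.card ≤ 8 := by
          rw [← octad_card hO]
          exact Finset.card_le_card hXO
        have h5 : 1 < X.card := by
          rw [Finset.one_lt_card]
          exact ⟨x, hXmem 1 (im F V).one_mem, c x, hXmem c hcB, Ne.symm hcx⟩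
        rw [hj] at h4 h5 ⊢
        have h6 : j ≤ 3 := by
          by_contra h
          have : 2 ^ 4 ≤ 2 ^ j := Nat.pow_le_pow_right (by norm_num) (by omega)
          omega
        interval_cases j
        · norm_num at h5
        · left; norm_num
        · right; left; norm_num
        · right; right; norm_num
      have hXS : X.card = 8 → Nat.card S ≤
          Nat.card (im F V ⊓ fixOct O : Subgroup (Equiv.Perm GolayPt)) := by
        intro h8
        apply hSfix
        intro s hs
        have h1 : X = O := Finset.eq_of_subset_of_card_le hXO (by rw [h8, octad_card hO])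
        refine mem_fixOct.2 ⟨hBM hs.1, fun w hw => ?_⟩
        rw [← h1, Finset.mem_filter] at hw
        obtain ⟨-, b, hb, rfl⟩ := hw
        rw [← Equiv.Perm.mul_apply, hBcomm s hs.1 b hb, Equiv.Perm.mul_apply, hSx s hs]
      have hDW8 : 4 ≤ X.card → Nat.card (V ⊓ F.E hex0 ⊓ WG F O : Subgroup G) ≤ 8 := by
        intro h4
        obtain ⟨w, hwX, hw⟩ : ∃ w ∈ X, w ∉ ({x, c x} : Finset GolayPt) := by
          by_contra hno
          push Not at hno
          have h5 := Finset.card_le_card (fun z hz => hno z hz : X ⊆ {x, c x})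
          have h6 := Finset.card_le_two (a := x) (b := c x)
          omega
        rw [Finset.mem_filter] at hwX
        obtain ⟨-, b, hb, rfl⟩ := hwX
        simp only [Finset.mem_insert, Finset.mem_singleton, not_or] at hw
        obtain ⟨nb, hnbV, hnb⟩ := hlift b hb
        have h7 := two_mul_card (F := F) (O := O) (n := nc) (m := nb) hx hcxO (Ne.symm hcx)
          (by rw [hnc]) (by rw [hnc, hcc]) (by rw [hnb]; exact hw.1) (by rw [hnb]; exact hw.2)
        have h8 : V ⊓ F.E hex0 ⊓ WG F O ≤ WG F O ⊓ Subgroup.centralizer ({(nc : G)} : Set G) ⊓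
            Subgroup.centralizer ({(nb : G)} : Set G) := by
          intro d hd
          exact ⟨⟨hd.2, Subgroup.mem_centralizer_singleton_iff.2 (hDc nc hncV d hd.1).symm⟩,
            Subgroup.mem_centralizer_singleton_iff.2 (hDc nb hnbV d hd.1).symm⟩
        have h9 := Subgroup.card_le_of_le h8
        omega
      refine arith hmul hD1 (fun h => ?_) hDW16 hDW8 hbX hS4 hS8 hXS ?_ hXcard
      · exact Subgroup.card_le_of_le (le_inf le_rfl (hD2 h))
      · rcases hβ with h | h | h | h
        · exact Or.inl h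
        · exact Or.inr (Or.inl h)
        · exact Or.inr (Or.inr h)
        · exact absurd h h16'

end Cfsg.Agent.H857.Classify
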