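import Cfsg.Agent.J4Type.TauMask
import Cfsg.Agent.J4Type.FusionFact
import Cfsg.Agent.J4Type.CocodeAct
import Cfsg.Agent.J4Type.DuadM24

/-!
# Fixed points of involutions of `M24` on the even Golay cocode (helper857)

`IsW O s` : the mask `s` is that of an even subset of the octad `O`.

* `fix_cases` : an element of the cocode fixed by an involution `u` fixing the octad `O` pointwise is in `W(O)` or
  in `W(O) + {p, u p}`, for every `p` outside `O`;
* `card_fixed_le` : a fixed point free involution fixes at most 64 elements of the even cocode.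
-/

set_option autoImplicit false

open scoped Pointwise

namespace Cfsg.Agent.H857.Fix

open Cfsg Cfsg.Agent.SporadicA.GolayBase Cfsg.Agent.SporadicA.GolayPerm
open Cfsg.Agent.SporadicA.OctadFix Cfsg.Agent.SporadicStructure.M24El
open Cfsg.Agent.J4.M24InvolData Cfsg.Agent.J4.M24Invol
open Cfsg.Agent.J4Type Cfsg.Agent.J4Type.CocodeMask Cfsg.Agent.J4Type.CocodeExt
open Cfsg.Agent.J4Type.CocodeAct Cfsg.Agent.J4Type.TauM24 Cfsg.Agent.J4Type.TauMask

/-- the masks of the even subsets of `O` -/
def IsW (O : Finset GolayPt) (s : ℕ) : Prop := ∃ S ⊆ O, Even S.card ∧ msk S = s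

theorem IsW.ev {O : Finset GolayPt} {s : ℕ} (h : IsW O s) : ev s = true := by
  obtain ⟨S, -, hS, rfl⟩ := h
  exact ev_msk hS

theorem isW_zero (O : Finset GolayPt) : IsW O 0 :=
  ⟨∅, Finset.empty_subset _, by simp, (msk_eq_zero_iff _).2 (by
    have h : (∅ : Finset GolayPt) = fin 0 := by decide +kernel
    rw [h, fin_mem_supports_iff (by norm_num)]
    decide +kernel)⟩

theorem IsW.xor {O : Finset GolayPt} {s t : ℕ} (h : IsW O s) (h' : IsW O t) : IsW O (s ^^^ t) := by
  obtain ⟨S, hS, hSe, rfl⟩ := h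
  obtain ⟨T, hT, hTe, rfl⟩ := h'
  refine ⟨symmDiff S T, ?_, ?_, msk_symmDiff S T⟩
  · exact Finset.symmDiff_subset_union.trans (Finset.union_subset hS hT)
  · exact FrameDefs.even_symmDiff hSe hTe

theorem IsW.act {O : Finset GolayPt} {s : ℕ} (h : IsW O s) (g : M24) :
    IsW ((g : Equiv.Perm GolayPt) • O) (act g s) := by
  obtain ⟨S, hS, hSe, rfl⟩ := h
  exact ⟨(g : Equiv.Perm GolayPt) • S, Finset.smul_finset_subset_smul_finset hS,
    by rwa [Finset.card_smul_finset], msk_smul g S⟩

theorem msk_pair {p q : GolayPt} (hpq : p ≠ q) : msk {p, q} = du p q := by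
  have h : ({p, q} : Finset GolayPt) = symmDiff {p} {q} := by
    ext x
    simp only [Finset.mem_insert, Finset.mem_singleton, Finset.mem_symmDiff]
    constructor
    · rintro (rfl | rfl)
      · exact Or.inl ⟨rfl, hpq⟩
      · exact Or.inr ⟨rfl, hpq.symm⟩
    · rintro (⟨h, -⟩ | ⟨h, -⟩)
      · exact Or.inl h
      · exact Or.inr h
  rw [h, msk_symmDiff, msk_singleton, msk_singleton]
  rfl

theorem isW_du {O : Finset GolayPt} {p q : GolayPt} (hp : p ∈ O) (hq : q ∈ O) : IsW O (du p q) := by
  by_cases hpq : p = q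
  · subst hpq
    rw [du_self]
    exact isW_zero O
  · refine ⟨{p, q}, ?_, by rw [Finset.card_pair hpq]; decide, msk_pair hpq⟩
    intro x hx
    rw [Finset.mem_insert, Finset.mem_singleton] at hx
    rcases hx with rfl | rfl <;> assumption

/-- a duad outside the octad is not in `W(O)` -/
theorem not_isW_du {O : Finset GolayPt} (hO : O ∈ octads) {p q : GolayPt} (hp : p ∉ O) (hq : q ∉ O)
    (hpq : p ≠ q) : ¬ IsW O (du p q) := by
  rintro ⟨S, hS, hSe, h⟩
  rw [← msk_pair hpq, msk_eq_iff] at h
  have h0 : Disjoint S {p, q} := by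
    rw [Finset.disjoint_left]
    intro x hx hx'
    rw [Finset.mem_insert, Finset.mem_singleton] at hx'
    rcases hx' with rfl | rfl
    · exact hp (hS hx)
    · exact hq (hS hx)
  have h1 : symmDiff S {p, q} = S ∪ {p, q} := by
    ext x
    simp only [Finset.mem_symmDiff, Finset.mem_union]
    rw [Finset.disjoint_left] at h0
    constructor
    · rintro (⟨h, -⟩ | ⟨h, -⟩)
      · exact Or.inl h
      · exact Or.inr h
    · rintro (h | h)
      · exact Or.inl ⟨h, h0 h⟩
      · exact Or.inr ⟨h, fun h' => h0 h' h⟩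
  have h2 : (symmDiff S {p, q} : Finset GolayPt).card = S.card + 2 := by
    rw [h1, Finset.card_union_of_disjoint h0, Finset.card_pair hpq]
  have hO8 : O.card = 8 := octad_card hO
  have h3 := Finset.card_le_card hS
  have h4 := card_of_mem_supports h
  have h5 : S.card = 6 := by omega
  have h6 : symmDiff S {p, q} ∈ octads := ⟨h, by rw [h2, h5]⟩
  have hne : symmDiff S {p, q} ≠ O := by
    intro h7
    apply hp
    rw [← h7, h1, Finset.mem_union]
    exact Or.inr (Finset.mem_insert_self _ _)
  have h8 : symmDiff S {p, q} ∩ O = S := by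
    rw [h1]
    ext x
    simp only [Finset.mem_inter, Finset.mem_union, Finset.mem_insert, Finset.mem_singleton]
    constructor
    · rintro ⟨h | rfl | rfl, hx⟩
      · exact h
      · exact absurd hx hp
      · exact absurd hx hq
    · intro h
      exact ⟨Or.inl h, hS h⟩
  have h7 := DuadM24.inter_card h6 hO hne (by rw [h8, h5]; norm_num)
  rw [h8, h5] at h7
  omega

/-! ### Involutions with fixed points -/

/-- the even subsets of the fixed octad of `P1` (up to complement) -/
def WS : List ℕ := [0, 24, 40, 136, 16392, 262152, 1048584, 48, 144, 16400, 262160, 1048592, 160, 16416, 262176, 1048608, 16512, 262272, 1048704, 278528, 1064960, 1310720, 184, 16440, 262200, 1048632, 16536, 262296, 1048728, 278552, 1064984, 1310744, 16552, 262312, 1048744, 278568, 1065000, 1310760, 278664, 1065096, 1310856, 1327112, 16560, 262320, 1048752, 278576, 1065008, 1310768, 278672, 1065104, 1310864, 1327120, 278688, 1065120, 1310880, 1327136, 1327232, 278712, 1065144, 1310904, 1327160, 1327256, 1327272, 1327280]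

/-- their masks -/
def WL : List ℕ := [0, 3920, 3461, 1806, 1767, 1699, 2019, 725, 2142, 2487, 2547, 2227, 2699, 2914, 2854, 2662, 489, 429, 237, 68, 260, 320, 1499, 1074, 1142, 1334, 3769, 3837, 4029, 3860, 3668, 3600, 3180, 3112, 3432, 3521, 3201, 3269, 1866, 1546, 1614, 1959, 828, 888, 568, 657, 977, 917, 2074, 2394, 2334, 2295, 2767, 2959, 3019, 2594, 169, 1439, 1247, 1179, 1394, 4089, 3372, 636]

def inWL (s : ℕ) : Bool := WL.any fun w => Nat.beq w s

theorem WL_eq : WS.map (fun m => (m ^^^ enc m) >>> 12) = WL := by decide +kernel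

def O1m : ℕ := 1327290

theorem WS_ok : ∀ m ∈ WS, m < 2 ^ 24 ∧ m &&& O1m = m ∧ popcount m % 2 = 0 := by decide +kernel

theorem isW_of_inWL {s : ℕ} (h : inWL s = true) : IsW (fin O1m) s := by
  rw [inWL, List.any_eq_true] at h
  obtain ⟨w, hw, hws⟩ := h
  rw [Nat.beq_eq] at hws
  subst hws
  rw [← WL_eq, List.mem_map] at hw
  obtain ⟨m, hm, rfl⟩ := hw
  obtain ⟨h1, h2, h3⟩ := WS_ok m hm
  refine ⟨fin m, ?_, ?_, ?_⟩
  · intro p hp
    rw [mem_fin] at hp ⊢
    rw [← h2, Nat.testBit_and, Bool.and_eq_true] at hp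
    exact hp.2
  · rw [card_fin, Nat.even_iff]
    exact h3
  · rw [msk, maskOf_fin h1]

/-- check of the fixed masks of `P1` -/
def k2ok (s : ℕ) : Bool :=
  !(ev s) || !(Nat.beq (actT P1 s) s) || inWL s ||
    ((List.range 24).all fun i => O1m.testBit i || inWL (s ^^^ (st i ^^^ st (papp P1 i))))

theorem k2_check : (List.range 4096).all k2ok = true := by decide +kernel

theorem isTab_P1 : IsTab (el P1) P1 := fun p => by
  rw [← coe_smul_pt, idx_el_smul ok_P1]

theorem isTab_P2 : IsTab (el P2) P2 := fun p => by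
  rw [← coe_smul_pt, idx_el_smul ok_P2]

theorem fixP1 {s : ℕ} (hs : ev s = true) (h : act (el P1) s = s) {p : GolayPt} (hp : p ∉ fin O1m) :
    IsW (fin O1m) s ∨ IsW (fin O1m) (s ^^^ du p ((el P1 : Equiv.Perm GolayPt) p)) := by
  have h1 := k2_check
  rw [List.all_eq_true] at h1
  have h2 := h1 s (List.mem_range.2 ((ev_iff s).1 hs).1)
  rw [act_eq isTab_P1] at h
  simp only [k2ok, hs, h, Nat.beq_refl, Bool.not_true, Bool.false_or, Bool.or_eq_true] at h2
  rcases h2 with h2 | h2
  · exact Or.inl (isW_of_inWL h2)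
  · right
    rw [List.all_eq_true] at h2
    have h3 := h2 (idx p) (List.mem_range.2 (idx_lt p))
    rw [Bool.or_eq_true] at h3
    rcases h3 with h3 | h3
    · exact absurd (mem_fin.2 h3) hp
    · apply isW_of_inWL
      rw [du, isTab_P1 p]
      exact h3

theorem fix_P1_eq : ∀ p : GolayPt, papp P1 (idx p) = idx p ↔ p ∈ fin O1m := by
  have h : ∀ p : GolayPt, papp P1 (idx p) = idx p ↔ O1m.testBit (idx p) = true := by decide +kernel
  intro p
  rw [h, mem_fin]

/-- the elements of the cocode fixed by an involution fixing an octad pointwise -/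
theorem fix_cases {O : Finset GolayPt} (hO : O ∈ octads) {u : M24}
    (hu : (u : Equiv.Perm GolayPt) ∈ fixOct O) (hu1 : u ≠ 1) {p : GolayPt} (hp : p ∉ O) {s : ℕ}
    (hs : ev s = true) (h : act u s = s) :
    IsW O s ∨ IsW O (s ^^^ du p ((u : Equiv.Perm GolayPt) p)) := by
  have hsq : u * u = 1 := Subtype.ext (fixOct_sq hO hu)
  obtain ⟨k, hk⟩ := invol_conj u hsq hu1
  have hfix : ∀ x : GolayPt, x ∈ O → (u : Equiv.Perm GolayPt) x = x := (mem_fixOct.1 hu).2
  have hne : O.Nonempty := by
    rw [← Finset.card_pos, octad_card hO]; norm_num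
  rcases hk with hk | hk
  · -- `k u k⁻¹ = el P1`
    have hkO : (k : Equiv.Perm GolayPt) • O = fin O1m := by
      apply Finset.eq_of_subset_of_card_le
      · intro y hy
        obtain ⟨x, hx, rfl⟩ := Finset.mem_smul_finset.1 hy
        rw [← fix_P1_eq, ← isTab_P1, ← hk]
        show idx ((k : Equiv.Perm GolayPt) ((u : Equiv.Perm GolayPt)
          ((k : Equiv.Perm GolayPt)⁻¹ ((k : Equiv.Perm GolayPt) x)))) = idx ((k : Equiv.Perm GolayPt) x)
        rw [show (k : Equiv.Perm GolayPt)⁻¹ ((k : Equiv.Perm GolayPt) x) = x from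
          (k : Equiv.Perm GolayPt).symm_apply_apply x, hfix x hx]
      · rw [Finset.card_smul_finset, octad_card hO]
        have : (fin O1m).card = 8 := by rw [card_fin]; decide +kernel
        rw [this]
    have hs' := ((ev_iff s).1 hs).1
    have hkp : (k : Equiv.Perm GolayPt) p ∉ fin O1m := by
      rw [← hkO]
      intro h1
      obtain ⟨x, hx, hxp⟩ := Finset.mem_smul_finset.1 h1
      exact hp ((k : Equiv.Perm GolayPt).injective hxp ▸ hx)
    have hinv : ∀ a, a < 4096 → act k⁻¹ (act k a) = a := by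
      intro a ha
      rw [← act_mul _ _ ha, inv_mul_cancel, act_one ha]
    have h2 : act (el P1) (act k s) = act k s := by
      rw [← hk, act_mul _ _ (act_lt k s), act_mul _ _ (act_lt _ _), hinv s hs', h]
    have h3 : (el P1 : Equiv.Perm GolayPt) ((k : Equiv.Perm GolayPt) p) =
        (k : Equiv.Perm GolayPt) ((u : Equiv.Perm GolayPt) p) := by
      rw [← hk]
      show (k : Equiv.Perm GolayPt) ((u : Equiv.Perm GolayPt)
        ((k : Equiv.Perm GolayPt)⁻¹ ((k : Equiv.Perm GolayPt) p))) = _
      congr 2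
      exact (k : Equiv.Perm GolayPt).symm_apply_apply p
    have hback : ∀ a, a < 4096 → IsW (fin O1m) (act k a) → IsW O a := by
      intro a ha h4
      have h5 := h4.act k⁻¹
      rw [hinv a ha, ← hkO, Subgroup.coe_inv, inv_smul_smul] at h5
      exact h5
    rcases fixP1 (ev_act k hs) h2 hkp with h4 | h4
    · exact Or.inl (hback s hs' h4)
    · right
      rw [h3, ← act_du, ← act_xor] at h4
      exact hback _ ((ev_iff _).1 (ev_xor hs (ev_du _ _))).1 h4
  · exfalso
    obtain ⟨x, hx⟩ := hne
    apply FusionM22.fix_P2 ((k : Equiv.Perm GolayPt) x)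
    rw [← el_smul_pt ok_P2, ← hk]
    show (k : Equiv.Perm GolayPt) ((u : Equiv.Perm GolayPt)
      ((k : Equiv.Perm GolayPt)⁻¹ ((k : Equiv.Perm GolayPt) x))) = _
    have h6 : (k : Equiv.Perm GolayPt)⁻¹ ((k : Equiv.Perm GolayPt) x) = x :=
      (k : Equiv.Perm GolayPt).symm_apply_apply x
    rw [h6, hfix x hx]

/-! ### Fixed point free involutions -/

/-- the fixed masks of `P2` -/
def F2 : List ℕ := [0, 12, 192, 204, 277, 281, 469, 473, 533, 537, 725, 729, 768, 780, 960, 972, 1056, 1068, 1248, 1260, 1333, 1337, 1525, 1529, 1589, 1593, 1781, 1785, 1824, 1836, 2016, 2028, 2049, 2061, 2241, 2253, 2324, 2328, 2516, 2520, 2580, 2584, 2772, 2776, 2817, 2829, 3009, 3021, 3105, 3117, 3297, 3309, 3380, 3384, 3572, 3576, 3636, 3640, 3828, 3832, 3873, 3885, 4065, 4077]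

def k1ok (s : ℕ) : Bool :=
  !(ev s) || !(Nat.beq (actT P2 s) s) || F2.any fun w => Nat.beq w s

theorem k1_check : (List.range 4096).all k1ok = true := by decide +kernel

theorem P1_fix : papp P1 1 = 1 := by decide +kernel

/-- a fixed point free involution fixes at most 64 elements of the even cocode -/
theorem card_fixed_le {u : M24} (hu : u * u = 1) (hfix : ∀ p, (u : Equiv.Perm GolayPt) p ≠ p) :
    ((Finset.range 4096).filter fun s => ev s = true ∧ act u s = s).card ≤ 64 := by
  have hu1 : u ≠ 1 := by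
    rintro rfl
    exact hfix none rfl
  obtain ⟨k, hk⟩ := invol_conj u hu hu1
  rcases hk with hk | hk
  · exfalso
    apply hfix ((k : Equiv.Perm GolayPt)⁻¹ (pt 1))
    have h1 : (el P1 : Equiv.Perm GolayPt) (pt 1) = pt 1 := by
      rw [← coe_smul_pt, el_smul_pt ok_P1, idx_pt (by norm_num), P1_fix]
    rw [← hk] at h1
    have h2 : (k : Equiv.Perm GolayPt) ((u : Equiv.Perm GolayPt)
      ((k : Equiv.Perm GolayPt)⁻¹ (pt 1))) = pt 1 := h1
    exact (Equiv.Perm.eq_inv_iff_eq).2 h2
  · have hcard : F2.toFinset.card ≤ 64 := (List.toFinset_card_le _).trans (by decide)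
    refine le_trans (Finset.card_le_card_of_injOn (act k) ?_ ?_) hcard
    · intro s hs
      rw [Finset.mem_coe, Finset.mem_filter, Finset.mem_range] at hs
      obtain ⟨hs1, hs2, hs3⟩ := hs
      have h2 : act (el P2) (act k s) = act k s := by
        rw [← hk, act_mul _ _ (act_lt k s), act_mul _ _ (act_lt _ _), ← act_mul k⁻¹ k hs1,
          inv_mul_cancel, act_one hs1, hs3]
      rw [act_eq isTab_P2] at h2
      have h3 := k1_check
      rw [List.all_eq_true] at h3
      have h4 := h3 (act k s) (List.mem_range.2 (act_lt _ _))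
      simp only [k1ok, ev_act k hs2, h2, Nat.beq_refl, Bool.not_true, Bool.false_or] at h4
      rw [List.any_eq_true] at h4
      obtain ⟨w, hw, hws⟩ := h4
      rw [Nat.beq_eq] at hws
      rw [Finset.mem_coe, List.mem_toFinset, ← hws]
      exact hw
    · intro s hs t ht hst
      rw [Finset.mem_coe, Finset.mem_filter, Finset.mem_range] at hs ht
      exact act_inj k hs.1 ht.1 hst

end Cfsg.Agent.H857.Fix
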