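import Cfsg.Agent.H857.Classify
import Cfsg.Agent.H857.Duad

/-!
# The subgroup `A(O) = W(O) φ(fixOct O)` and the elementary abelian subgroups of order `2^10` (helper857)

* `exists_conj_le` : every 2-subgroup of `G` is conjugate to a subgroup of `N_G(E)`;
* `exists_eq` : if `V` is elementary abelian of order `2^10` and `V` is not contained in a conjugate of `E` then
  `V` is conjugate to `A(O)`, for every octad `O`;
* `AG_cent` : `C_G(A(O)) = A(O)`.
-/

set_option autoImplicit false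

open scoped Pointwise

namespace Cfsg.Agent.H857.Normal

open Cfsg Cfsg.Agent.SporadicA.GolayBase Cfsg.Agent.SporadicA.OctadFix
open Cfsg.Agent.J4Type Cfsg.Agent.J4Type.CocodeMask Cfsg.Agent.J4Type.TauM24
open Cfsg.Agent.J4Type.TauMask Cfsg.Agent.J4Type.FrameDefs
open Cfsg.Agent.H857.Fix Cfsg.Agent.H857.WGrp Cfsg.Agent.H857.Card Cfsg.Agent.H857.Classify
open Cfsg.Agent.H857.Orbits (mem_smul_iff)

variable {G : Type*} [Group G]

/-! ### Sylow -/

/-- every 2-subgroup is conjugate to a subgroup of `N_G(E)` -/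
theorem exists_conj_le [Finite G] (H : Hex G) {V : Subgroup G} (hV : IsPGroup 2 V) :
    ∃ g : G, MulAut.conj g • V ≤ Subgroup.normalizer (H.E hex0 : Set G) := by
  have : Fact (Nat.Prime 2) := ⟨Nat.prime_two⟩
  obtain ⟨S, hS⟩ := hV.exists_le_sylow
  obtain ⟨V0, hV0, hc, hV0S⟩ := Cfsg.Agent.H856.TwoEleven.exists_le_sylow H S
  obtain ⟨g, hg⟩ := Cfsg.Agent.H856.TwoEleven.exists_conj_E H hV0 hc.ge
  refine ⟨g, ?_⟩
  intro v hv
  rw [mem_smul_iff] at hv
  have hs : g⁻¹ * v * g ∈ (S : Subgroup G) := hS hv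
  rw [← hg, Orbits.mem_normalizer_smul]
  set s := g⁻¹ * v * g with hsdef
  have h1 : MulAut.conj s • V0 = V0 := by
    apply Cfsg.Agent.H856.TwoEleven.eq_of_le_sylow H S
      (Cfsg.Agent.H856.TwoEleven.isElem2_smul hV0 s)
      (by rw [Cfsg.Agent.H856.TwoEleven.card_smul, hc]) _ hV0 hc.ge hV0S
    intro x hx
    rw [mem_smul_iff] at hx
    have h2 := hV0S hx
    have h3 : s * (s⁻¹ * x * s) * s⁻¹ ∈ (S : Subgroup G) :=
      (S : Subgroup G).mul_mem ((S : Subgroup G).mul_mem hs h2) ((S : Subgroup G).inv_mem hs)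
    have h4 : s * (s⁻¹ * x * s) * s⁻¹ = x := by group
    rwa [h4] at h3
  rw [Subgroup.mem_normalizer_iff]
  intro h
  have h5 : s * h * s⁻¹ ∈ MulAut.conj s • V0 ↔ h ∈ V0 := Orbits.conj_mem_smul
  rw [h1] at h5
  exact h5.symm

/-! ### The subgroup `A(O)` -/

section

variable (C : J4Type.Compl G)

theorem φ_conj_WG (g : M24) {O : Finset GolayPt} {w : G} (hw : w ∈ WG C.toFrame O) :
    C.φ g * w * (C.φ g)⁻¹ ∈ WG C.toFrame ((g : Equiv.Perm GolayPt) • O) := by
  obtain ⟨S, hS, hSe, rfl⟩ := hw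
  exact ⟨(g : Equiv.Perm GolayPt) • S, Finset.smul_finset_subset_smul_finset hS,
    by rwa [Finset.card_smul_finset], (TauMain.φ_ε C g hSe).symm⟩

/-- an element fixing `O` pointwise centralises `W(O)` -/
theorem φ_comm_WG {O : Finset GolayPt} {b : M24} (hb : (b : Equiv.Perm GolayPt) ∈ fixOct O) {w : G}
    (hw : w ∈ WG C.toFrame O) : C.φ b * w = w * C.φ b := by
  obtain ⟨S, hS, hSe, rfl⟩ := hw
  have h := TauMain.φ_ε C b hSe
  have h1 : (b : Equiv.Perm GolayPt) • S = S := by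
    apply smul_eq_of_mapsTo
    intro x hx
    rw [(mem_fixOct.1 hb).2 x (hS hx)]
    exact hx
  rw [h1] at h
  exact mul_inv_eq_iff_eq_mul.1 h

/-- the subgroup `A(O)` -/
def AG (O : Finset GolayPt) : Subgroup G where
  carrier := {a | ∃ w ∈ WG C.toFrame O, ∃ b : M24, (b : Equiv.Perm GolayPt) ∈ fixOct O ∧
    w * C.φ b = a}
  one_mem' := ⟨1, one_mem _, 1, (fixOct O).one_mem, by rw [map_one, mul_one]⟩
  mul_mem' := by
    rintro _ _ ⟨w, hw, b, hb, rfl⟩ ⟨w', hw', b', hb', rfl⟩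
    refine ⟨w * w', mul_mem hw hw', b * b', (fixOct O).mul_mem hb hb', ?_⟩
    rw [map_mul]
    calc w * w' * (C.φ b * C.φ b') = w * (w' * C.φ b) * C.φ b' := by group
      _ = w * (C.φ b * w') * C.φ b' := by rw [φ_comm_WG C hb hw']
      _ = _ := by group
  inv_mem' := by
    rintro _ ⟨w, hw, b, hb, rfl⟩
    refine ⟨w⁻¹, inv_mem hw, b⁻¹, (fixOct O).inv_mem hb, ?_⟩
    have h := φ_comm_WG C hb hw
    rw [mul_inv_rev, map_inv, ← mul_inv_rev, ← mul_inv_rev, h]

variable {C}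

theorem mem_AG {O : Finset GolayPt} {a : G} : a ∈ AG C O ↔ ∃ w ∈ WG C.toFrame O, ∃ b : M24,
    (b : Equiv.Perm GolayPt) ∈ fixOct O ∧ w * C.φ b = a := Iff.rfl

theorem WG_le_AG (O : Finset GolayPt) : WG C.toFrame O ≤ AG C O := fun w hw =>
  ⟨w, hw, 1, (fixOct O).one_mem, by rw [map_one, mul_one]⟩

theorem φ_mem_AG {O : Finset GolayPt} {b : M24} (hb : (b : Equiv.Perm GolayPt) ∈ fixOct O) :
    C.φ b ∈ AG C O := ⟨1, one_mem _, b, hb, one_mul _⟩

theorem WG_mem_norm {O : Finset GolayPt} {w : G} (hw : w ∈ WG C.toFrame O) :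
    w ∈ Subgroup.normalizer (C.E hex0 : Set G) := E_le C.toFrame (WG_le O hw)

theorem AG_le_norm (O : Finset GolayPt) : AG C O ≤ Subgroup.normalizer (C.E hex0 : Set G) := by
  rintro _ ⟨w, hw, b, hb, rfl⟩
  exact mul_mem (WG_mem_norm hw) (C.φ_mem b)

/-- the permutation induced by `w φ(b)` -/
theorem π_mul {w : G} (hw : w ∈ C.E hex0) (b : M24)
    (h : w * C.φ b ∈ Subgroup.normalizer (C.E hex0 : Set G)) : C.π ⟨w * C.φ b, h⟩ = b := by
  have h1 : (⟨w * C.φ b, h⟩ : Subgroup.normalizer (C.E hex0 : Set G)) =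
      ⟨w, E_le C.toFrame hw⟩ * ⟨C.φ b, C.φ_mem b⟩ := rfl
  rw [h1, map_mul, C.π_φ, (C.π_ker ⟨w, E_le C.toFrame hw⟩).2 hw, one_mul]

/-- `n (φ (π n))⁻¹ ∈ E` -/
theorem div_mem {n : G} (hn : n ∈ Subgroup.normalizer (C.E hex0 : Set G)) :
    n * (C.φ (C.π ⟨n, hn⟩))⁻¹ ∈ C.E hex0 := by
  have h4 : C.π (⟨n, hn⟩ * ⟨C.φ (C.π ⟨n, hn⟩), C.φ_mem _⟩⁻¹) = 1 := by
    rw [map_mul, map_inv, C.π_φ, mul_inv_cancel]
  exact (C.π_ker _).1 h4

theorem AG_inf (O : Finset GolayPt) : AG C O ⊓ C.E hex0 = WG C.toFrame O := by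
  apply le_antisymm
  · rintro _ ⟨⟨w, hw, b, hb, rfl⟩, hE⟩
    have h1 := π_mul (WG_le O hw) b (AG_le_norm O ⟨w, hw, b, hb, rfl⟩)
    rw [(C.π_ker ⟨w * C.φ b, _⟩).2 hE] at h1
    rw [← h1, map_one, mul_one]
    exact hw
  · exact le_inf (WG_le_AG O) (WG_le O)

theorem φ_sq {O : Finset GolayPt} (hO : O ∈ octads) {b : M24}
    (hb : (b : Equiv.Perm GolayPt) ∈ fixOct O) : C.φ b * C.φ b = 1 := by
  rw [← map_mul, show b * b = 1 from Subtype.ext (fixOct_sq hO hb), map_one]

theorem AG_sq {O : Finset GolayPt} (hO : O ∈ octads) : ∀ a ∈ AG C O, a * a = 1 := by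
  rintro _ ⟨w, hw, b, hb, rfl⟩
  calc w * C.φ b * (w * C.φ b) = w * (C.φ b * w) * C.φ b := by group
    _ = w * (w * C.φ b) * C.φ b := by rw [φ_comm_WG C hb hw]
    _ = (w * w) * (C.φ b * C.φ b) := by group
    _ = 1 := by rw [E_sq (WG_le O hw), φ_sq hO hb, mul_one]

/-- a subgroup with the same invariants as `A(O)`, containing the `φ(b)` -/
theorem eq_AG {O : Finset GolayPt} {V : Subgroup G}
    (hVN : V ≤ Subgroup.normalizer (C.E hex0 : Set G)) (him : im C.toFrame V ≤ fixOct O)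
    (hW : V ⊓ C.E hex0 = WG C.toFrame O)
    (hφ : ∀ b : M24, (b : Equiv.Perm GolayPt) ∈ fixOct O → C.φ b ∈ V) : V = AG C O := by
  apply le_antisymm
  · intro v hv
    have hn := hVN hv
    have hb : (C.π ⟨v, hn⟩ : Equiv.Perm GolayPt) ∈ fixOct O :=
      him ((mem_im C.toFrame).2 ⟨⟨v, hn⟩, hv, rfl⟩)
    refine ⟨v * (C.φ (C.π ⟨v, hn⟩))⁻¹, ?_, C.π ⟨v, hn⟩, hb, by group⟩
    rw [← hW]
    exact ⟨V.mul_mem hv (V.inv_mem (hφ _ hb)), div_mem hn⟩
  · rintro _ ⟨w, hw, b, hb, rfl⟩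
    rw [← hW] at hw
    exact V.mul_mem hw.1 (hφ b hb)

/-- the alternative for the elements of `V` over `b` -/
theorem alt {O : Finset GolayPt} (hO : O ∈ octads) {V : Subgroup G} (hV : ∀ a ∈ V, a * a = 1)
    (him : fixOct O ≤ im C.toFrame V)
    (hW : V ⊓ C.E hex0 = WG C.toFrame O) {p : GolayPt} (hp : p ∉ O) {b : M24}
    (hb : (b : Equiv.Perm GolayPt) ∈ fixOct O) (hb1 : b ≠ 1) :
    C.φ b ∈ V ∨ C.ε {p, (b : Equiv.Perm GolayPt) p} * C.φ b ∈ V := by
  have hWV : WG C.toFrame O ≤ V := by rw [← hW]; exact inf_le_left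
  obtain ⟨n, hnV, hn⟩ := (mem_im C.toFrame).1 (him hb)
  have hn' : C.π n = b := Subtype.ext hn
  have he : (n : G) * (C.φ b)⁻¹ ∈ C.E hex0 := by
    have := div_mem (C := C) n.2
    rwa [show C.π ⟨(n : G), n.2⟩ = b from hn'] at this
  set e := (n : G) * (C.φ b)⁻¹ with hedef
  have hne : (n : G) = e * C.φ b := by rw [hedef]; group
  have hee := E_sq he
  have hbb := φ_sq (C := C) hO hb
  have hcomm : C.φ b * e = e * C.φ b := by
    have h1 := hV _ hnV
    rw [hne] at h1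
    calc C.φ b * e = (e * e) * (C.φ b * e) * (C.φ b * C.φ b) := by rw [hee, hbb, one_mul, mul_one]
      _ = e * (e * C.φ b * (e * C.φ b)) * C.φ b := by group
      _ = e * C.φ b := by rw [h1, mul_one]
  have hpb : p ≠ (b : Equiv.Perm GolayPt) p := by
    intro h
    apply hb1
    exact Subtype.ext (OctadFixTrans.eq_one_of_fix hO hb hp h.symm)
  have hπ : C.π ⟨C.φ b, C.φ_mem b⟩ = b := C.π_φ b
  have hc := cases_of_comm (F := C.toFrame) hO (n := ⟨C.φ b, C.φ_mem b⟩) (by rw [hπ]; exact hb)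
    (by rw [hπ]; exact hb1) hp he hcomm
  rw [hπ] at hc
  rcases hc with h | h
  · left
    have h1 := V.mul_mem (V.inv_mem (hWV h)) hnV
    rwa [hne, inv_mul_cancel_left] at h1
  · right
    have h1 := V.mul_mem (V.inv_mem (hWV h)) hnV
    have hε := ε_sq C.toFrame (even_pair' hpb)
    have h2 : (e * C.ε {p, (b : Equiv.Perm GolayPt) p})⁻¹ * (n : G) =
        C.ε {p, (b : Equiv.Perm GolayPt) p} * C.φ b := by
      rw [hne, mul_inv_rev, mul_assoc, inv_mul_cancel_left]
      congr 1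
      exact inv_eq_of_mul_eq_one_right hε
    rwa [h2] at h1

/-- **normal form**: `V` is `A(O)` or its conjugate by a duad meeting `O` in one point -/
theorem exists_conj_AG {O : Finset GolayPt} (hO : O ∈ octads) {V : Subgroup G}
    (hV : ∀ a ∈ V, a * a = 1)
    (hVN : V ≤ Subgroup.normalizer (C.E hex0 : Set G)) (him : im C.toFrame V = fixOct O)
    (hW : V ⊓ C.E hex0 = WG C.toFrame O) : ∃ g : G, MulAut.conj g • V = AG C O := by
  by_cases hall : ∀ b : M24, (b : Equiv.Perm GolayPt) ∈ fixOct O → C.φ b ∈ V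
  · exact ⟨1, by rw [map_one, one_smul]; exact eq_AG hVN him.le hW hall⟩
  · push Not at hall
    obtain ⟨b0, hb0, hb0V⟩ := hall
    have hb01 : b0 ≠ 1 := by
      rintro rfl
      exact hb0V (by rw [map_one]; exact V.one_mem)
    obtain ⟨p, hp⟩ := FusionComm.exists_out hO
    have hne : O.Nonempty := by
      rw [← Finset.card_pos, octad_card hO]; norm_num
    obtain ⟨o, ho⟩ := hne
    have hpo : p ≠ o := fun h => hp (h ▸ ho)
    have hout : ∀ w : M24, (w : Equiv.Perm GolayPt) ∈ fixOct O → (w : Equiv.Perm GolayPt) p ∉ O := by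
      intro w hw h
      have h1 := (mem_fixOct.1 hw).2 _ h
      exact hp ((w : Equiv.Perm GolayPt).injective h1 ▸ h)
    have hmv : ∀ w : M24, (w : Equiv.Perm GolayPt) ∈ fixOct O → w ≠ 1 →
        p ≠ (w : Equiv.Perm GolayPt) p := by
      intro w hw hw1 h
      exact hw1 (Subtype.ext (OctadFixTrans.eq_one_of_fix hO hw hp h.symm))
    have hQ0 := (alt hO hV him.ge hW hp hb0 hb01).resolve_left hb0V
    have hVcomm := comm_of_sq hV
    have hQ : ∀ b : M24, (b : Equiv.Perm GolayPt) ∈ fixOct O → b ≠ 1 →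
        C.ε {p, (b : Equiv.Perm GolayPt) p} * C.φ b ∈ V := by
      intro b hb hb1
      by_contra hno
      have hPb := (alt hO hV him.ge hW hp hb hb1).resolve_right hno
      have hbb0 : b ≠ b0 := fun h => hb0V (h ▸ hPb)
      have hprod : ((b * b0 : M24) : Equiv.Perm GolayPt) ∈ fixOct O := (fixOct O).mul_mem hb hb0
      have hprod1 : b * b0 ≠ 1 := by
        intro h
        have h1 : b0 * b0 = 1 := Subtype.ext (fixOct_sq hO hb0)
        exact hbb0 (by rw [eq_inv_of_mul_eq_one_left h, inv_eq_of_mul_eq_one_right h1])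
      rcases alt hO hV him.ge hW hp hprod hprod1 with h | h
      · apply hb0V
        have h1 := V.mul_mem (V.inv_mem hPb) h
        rwa [map_mul, inv_mul_cancel_left] at h1
      · -- `ε{p, b b0 p} φ b φ b0 ∈ V` and `φ b ε{p, b0 p} φ b0 ∈ V`
        have h1 := V.mul_mem hPb hQ0
        have hp0 := hmv b0 hb0 hb01
        have h2 := TauMain.φ_ε C b (even_pair' hp0)
        have h3 : (b : Equiv.Perm GolayPt) • ({p, (b0 : Equiv.Perm GolayPt) p} : Finset GolayPt) =
            {(b : Equiv.Perm GolayPt) p, ((b * b0 : M24) : Equiv.Perm GolayPt) p} := by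
          rw [Finset.smul_finset_insert, Finset.smul_finset_singleton]
          rfl
        rw [h3] at h2
        have hne1 : (b : Equiv.Perm GolayPt) p ≠ ((b * b0 : M24) : Equiv.Perm GolayPt) p := by
          intro h
          exact hp0 ((b : Equiv.Perm GolayPt).injective h)
        have h4 : C.φ b * (C.ε {p, (b0 : Equiv.Perm GolayPt) p} * C.φ b0) =
            C.ε {(b : Equiv.Perm GolayPt) p, ((b * b0 : M24) : Equiv.Perm GolayPt) p} *
              C.φ (b * b0) := by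
          rw [← h2, map_mul]
          group
        rw [h4] at h1
        have h5 := V.mul_mem h (V.inv_mem h1)
        have hpm := hmv _ hprod hprod1
        have hε := ε_sq C.toFrame (even_pair' hne1)
        have h6 : C.ε {p, ((b * b0 : M24) : Equiv.Perm GolayPt) p} * C.φ (b * b0) *
            (C.ε {(b : Equiv.Perm GolayPt) p, ((b * b0 : M24) : Equiv.Perm GolayPt) p} *
              C.φ (b * b0))⁻¹ = C.ε {(b : Equiv.Perm GolayPt) p, p} := by
          rw [mul_inv_rev, ← mul_assoc, mul_inv_cancel_right, inv_eq_of_mul_eq_one_right hε,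
            Finset.pair_comm p, Finset.pair_comm ((b : Equiv.Perm GolayPt) p)]
          rw [ε_pair_mul (F := C.toFrame) hpm.symm hne1.symm (hmv b hb hb1), Finset.pair_comm]
        rw [h6] at h5
        have h7 : C.ε {(b : Equiv.Perm GolayPt) p, p} ∈ V ⊓ C.E hex0 :=
          ⟨h5, C.ε_mem _ (even_pair' (hmv b hb hb1).symm)⟩
        rw [hW] at h7
        exact duad_not_mem_WG hO (hout b hb) hp (hmv b hb hb1).symm h7
    -- conjugate by `ε {p, o}`
    set g := C.ε {p, o} with hg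
    have hgE : g ∈ C.E hex0 := C.ε_mem _ (even_pair' hpo)
    have hgg : g * g = 1 := E_sq hgE
    have hginv : g⁻¹ = g := inv_eq_of_mul_eq_one_right hgg
    have hEcomm : ∀ a ∈ C.E hex0, g * a * g⁻¹ = a := by
      intro a ha
      rw [(C.E_elem hex0 HexMax.hex0_isHex).2 g hgE a ha, mul_inv_cancel_right]
    refine ⟨g, eq_AG ?_ ?_ ?_ ?_⟩
    · intro v hv
      rw [mem_smul_iff] at hv
      have h1 := hVN hv
      have h2 : v = g * (g⁻¹ * v * g) * g⁻¹ := by group
      rw [h2]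
      exact mul_mem (mul_mem (E_le C.toFrame hgE) h1) (inv_mem (E_le C.toFrame hgE))
    · intro x hx
      obtain ⟨n, hn, rfl⟩ := (mem_im C.toFrame).1 hx
      rw [mem_smul_iff] at hn
      rw [← him]
      have hgN : g ∈ Subgroup.normalizer (C.E hex0 : Set G) := E_le C.toFrame hgE
      refine (mem_im C.toFrame).2 ⟨⟨g, hgN⟩⁻¹ * n * ⟨g, hgN⟩, hn, ?_⟩
      have h1 : C.π ⟨g, hgN⟩ = 1 := (C.π_ker ⟨g, hgN⟩).2 hgE
      show ((C.π (⟨g, hgN⟩⁻¹ * n * ⟨g, hgN⟩) : M24) : Equiv.Perm GolayPt) = _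
      rw [map_mul, map_mul, map_inv, h1]
      simp
    · ext a
      rw [← hW, Subgroup.mem_inf, Subgroup.mem_inf, mem_smul_iff]
      constructor
      · rintro ⟨h1, h2⟩
        have h3 := hEcomm a h2
        rw [hginv] at h1 h3
        rw [h3] at h1
        exact ⟨h1, h2⟩
      · rintro ⟨h1, h2⟩
        have h3 := hEcomm a h2
        rw [hginv] at h3
        rw [hginv, h3]
        exact ⟨h1, h2⟩
    · intro b hb
      rw [mem_smul_iff]
      by_cases hb1 : b = 1
      · rw [hb1, map_one, mul_one, inv_mul_cancel]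
        exact V.one_mem
      · have h1 := hQ b hb hb1
        have hbo : (b : Equiv.Perm GolayPt) o = o := (mem_fixOct.1 hb).2 o ho
        have h2 := TauMain.φ_ε C b (even_pair' hpo)
        have h3 : (b : Equiv.Perm GolayPt) • ({p, o} : Finset GolayPt) =
            {(b : Equiv.Perm GolayPt) p, o} := by
          rw [Finset.smul_finset_insert, Finset.smul_finset_singleton]
          show ({(b : Equiv.Perm GolayPt) p, (b : Equiv.Perm GolayPt) o} : Finset GolayPt) = _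
          rw [hbo]
        rw [h3] at h2
        have hbpo : (b : Equiv.Perm GolayPt) p ≠ o := fun h => hout b hb (h ▸ ho)
        have h4 : g * C.φ b * g = C.ε {p, (b : Equiv.Perm GolayPt) p} * C.φ b := by
          have h5 : C.φ b * g = C.ε {(b : Equiv.Perm GolayPt) p, o} * C.φ b :=
            mul_inv_eq_iff_eq_mul.1 h2
          rw [mul_assoc, h5, ← mul_assoc, hg, Finset.pair_comm p o,
            Finset.pair_comm ((b : Equiv.Perm GolayPt) p) o,
            ε_pair_mul (F := C.toFrame) (Ne.symm hpo) (Ne.symm hbpo) (hmv b hb hb1)]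
        rw [hginv, h4]
        exact h1

/-- the conjugates of `A(O)` under `φ(M24)` -/
theorem smul_AG (k : M24) (O : Finset GolayPt) :
    MulAut.conj (C.φ k) • AG C O = AG C ((k : Equiv.Perm GolayPt) • O) := by
  have key : ∀ (k : M24) (O : Finset GolayPt), MulAut.conj (C.φ k) • AG C O ≤
      AG C ((k : Equiv.Perm GolayPt) • O) := by
    intro k O x hx
    rw [mem_smul_iff] at hx
    obtain ⟨w, hw, b, hb, h⟩ := hx
    refine ⟨C.φ k * w * (C.φ k)⁻¹, φ_conj_WG C k hw, k * b * k⁻¹, ?_, ?_⟩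
    · exact (conj_mem_fixOct (o := O) k.2).2 hb
    · have h1 : x = C.φ k * ((C.φ k)⁻¹ * x * C.φ k) * (C.φ k)⁻¹ := by group
      rw [h1, ← h, map_mul, map_mul, map_inv]
      group
  apply le_antisymm (key k O)
  intro x hx
  rw [mem_smul_iff]
  have h1 := key k⁻¹ ((k : Equiv.Perm GolayPt) • O)
  rw [Subgroup.coe_inv, inv_smul_smul] at h1
  apply h1
  rw [mem_smul_iff, map_inv, inv_inv]
  have h2 : C.φ k * ((C.φ k)⁻¹ * x * C.φ k) * (C.φ k)⁻¹ = x := by group
  rw [h2]
  exact hx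

/-! ### Main results -/

/-- every elementary abelian subgroup of order `2^10` not contained in a conjugate of `E` is conjugate to `A(O)` -/
theorem exists_eq [Finite G] (C : J4Type.Compl G) {V : Subgroup G} (hV : IsElem2 V)
    (hcard : Nat.card V = 2 ^ 10) (hVE : ∀ g : G, ¬ MulAut.conj g • V ≤ C.E hex0)
    {O : Finset GolayPt} (hO : O ∈ octads) : ∃ g : G, MulAut.conj g • V = AG C O := by
  obtain ⟨g, hg⟩ := exists_conj_le C.toHex (Cfsg.Agent.H856.TwoEleven.isPGroup_of_isElem2 hV)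
  have hV' := Cfsg.Agent.H856.TwoEleven.isElem2_smul hV g
  obtain ⟨O', hO', him, hW⟩ := classify C.toFrame hV'.1 hg
    (by rw [Cfsg.Agent.H856.TwoEleven.card_smul, hcard]) (hVE g)
  obtain ⟨h, hh⟩ := exists_conj_AG hO' hV'.1 hg him hW
  obtain ⟨p, hp⟩ := FusionComm.exists_out hO
  obtain ⟨p', hp'⟩ := FusionComm.exists_out hO'
  obtain ⟨k, hk, hkO, -⟩ := Cfsg.Agent.SporadicStructure.M24Frame.exists_smul_octad hO' hO hp' hp
  refine ⟨C.φ ⟨k, hk⟩ * h * g, ?_⟩
  rw [map_mul, map_mul, mul_smul, mul_smul, hh, smul_AG]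
  show AG C (k • O') = _
  rw [hkO]

/-- `A(O)` is self-centralising -/
theorem AG_cent [Finite G] (C : J4Type.Compl G) {O : Finset GolayPt} (hO : O ∈ octads) :
    Subgroup.centralizer (AG C O : Set G) = AG C O := by
  apply le_antisymm
  · intro x hx
    rw [Subgroup.mem_centralizer_iff] at hx
    have hO8 : O.card = 8 := octad_card hO
    obtain ⟨p, hp, q, hq, hpq⟩ := Finset.one_lt_card.1 (show 1 < O.card by omega)
    have hd : ∀ p ∈ O, ∀ q ∈ O, p ≠ q → x * C.ε {p, q} = C.ε {p, q} * x := fun p hp q hq hpq =>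
      (hx _ (WG_le_AG O (duad_mem_WG hp hq hpq))).symm
    have hxN : x ∈ Subgroup.normalizer (C.E hex0 : Set G) :=
      DuadCent.duad_cent C.toFrame hpq (hd p hp q hq hpq)
    have hfix : ∀ r ∈ O, (C.π ⟨x, hxN⟩ : Equiv.Perm GolayPt) r = r := by
      intro r hr
      obtain ⟨s, hs, hsr⟩ := Finset.exists_mem_ne (show 1 < O.card by omega) r
      obtain ⟨t, ht, htn⟩ : ∃ t ∈ O, t ∉ ({r, s} : Finset GolayPt) := by
        by_contra hno
        push Not at hno
        have h4 := Finset.card_le_card (fun z hz => hno z hz : O ⊆ {r, s})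
        have h5 := Finset.card_le_two (a := r) (b := s)
        omega
      simp only [Finset.mem_insert, Finset.mem_singleton, not_or] at htn
      rcases duad_comm (F := C.toFrame) (n := ⟨x, hxN⟩) hsr.symm (hd r hr s hs hsr.symm) with h | h
      · exact h
      · rcases duad_comm (F := C.toFrame) (n := ⟨x, hxN⟩) (Ne.symm htn.1)
          (hd r hr t ht (Ne.symm htn.1)) with h' | h'
        · exact h'
        · exact absurd (h'.symm.trans h) htn.2
    have hb : (C.π ⟨x, hxN⟩ : Equiv.Perm GolayPt) ∈ fixOct O :=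
      mem_fixOct.2 ⟨(C.π ⟨x, hxN⟩).2, hfix⟩
    refine ⟨x * (C.φ (C.π ⟨x, hxN⟩))⁻¹, ?_, C.π ⟨x, hxN⟩, hb, by group⟩
    have he := div_mem (C := C) hxN
    set e := x * (C.φ (C.π ⟨x, hxN⟩))⁻¹ with hedef
    obtain ⟨a, ha, b, hb', ha1, hb1, hab⟩ := FusionFact.exists_two_of_card (K := fixOct O)
      (by rw [card_fixOct hO]; norm_num)
    have hcomm : ∀ (a : M24), (a : Equiv.Perm GolayPt) ∈ fixOct O → C.φ a * e = e * C.φ a := by
      intro a ha
      have h1 := hx _ (φ_mem_AG (C := C) ha)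
      have h2 : C.φ a * C.φ (C.π ⟨x, hxN⟩) = C.φ (C.π ⟨x, hxN⟩) * C.φ a := by
        rw [← map_mul, ← map_mul]
        congr 1
        exact Subtype.ext (FusionComm.fixOct_comm hO ha hb)
      have h3 : C.φ a * (C.φ (C.π ⟨x, hxN⟩))⁻¹ = (C.φ (C.π ⟨x, hxN⟩))⁻¹ * C.φ a := by
        rw [mul_inv_eq_iff_eq_mul, mul_assoc, h2, inv_mul_cancel_left]
      rw [hedef, ← mul_assoc, h1, mul_assoc, h3, mul_assoc]
    have hπ : ∀ a : M24, C.π ⟨C.φ a, C.φ_mem a⟩ = a := C.π_φ
    have haM := (mem_fixOct.1 ha).1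
    have hbM := (mem_fixOct.1 hb').1
    apply mem_WG_of_comm (F := C.toFrame) hO (n := ⟨C.φ ⟨a, haM⟩, C.φ_mem _⟩)
      (m := ⟨C.φ ⟨b, hbM⟩, C.φ_mem _⟩)
    · rw [hπ]; exact ha
    · rw [hπ]; exact fun h => ha1 (congrArg Subtype.val h)
    · rw [hπ]; exact hb'
    · rw [hπ]; exact fun h => hb1 (congrArg Subtype.val h)
    · rw [hπ, hπ]; exact fun h => hab (congrArg Subtype.val h)
    · exact he
    · exact hcomm ⟨a, haM⟩ ha
    · exact hcomm ⟨b, hbM⟩ hb'
  · intro x hx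
    rw [Subgroup.mem_centralizer_iff]
    intro y hy
    exact comm_of_sq (AG_sq hO) y hy x hx

end

end Cfsg.Agent.H857.Normal
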