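import Cfsg.Agent.H857.T10Rel
import Cfsg.Agent.H857.T10Tab
import Cfsg.Agent.H857.Orbits

/-!
# The action of the transvections on the exterior square (helper857)

`Rel5 X E` : `A₀` is generated by the list `bl E` of ten elements; `X i j` normalises `A₀`; the nontrivial elements
of `A₀` lie in the orbits of `beta (bl E) 1` and `beta (bl E) 26`; `ncard_orb`: if these are not conjugate, the
orbits have lengths 155 and 868.
-/

set_option autoImplicit false

open scoped Pointwise

namespace Cfsg.Agent.H857.T10Act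

open Cfsg.Agent.J4.Beta Cfsg.Agent.H857.T10Rel Cfsg.Agent.H857.T10Tab

/-- the pairs -/
def L10 : List (Fin 5 × Fin 5) :=
  [(0, 1), (0, 2), (0, 3), (1, 2), (1, 3), (2, 3), (0, 4), (1, 4), (2, 4), (3, 4)]

/-- the mask of a pair -/
def bit (k l : Fin 5) : ℕ :=
  2 ^ (L10.findIdx fun p => (p.1 == k && p.2 == l) || (p.1 == l && p.2 == k))

/-- image of the pair `k, l` under the transvection `i, j` -/
def img (i j k l : Fin 5) : ℕ :=
  if j = l ∧ i ≠ k then bit k l ^^^ bit k i else
    if j = k ∧ i ≠ l then bit k l ^^^ bit i l else bit k l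

/-- the matrix of the transvection -/
def AM (i j : Fin 5) : List ℕ := L10.map fun p => img i j p.1 p.2

section

variable {G : Type*} [Group G]

/-- the basis -/
def bl (E : Fin 5 → Fin 5 → G) : List G := L10.map fun p => E p.1 p.2

variable {X E : Fin 5 → Fin 5 → G} (h : Rel5 X E)

theorem L10_ne : ∀ p ∈ L10, p.1 ≠ p.2 := by decide

theorem mem_bl {q : G} : q ∈ bl E ↔ ∃ p ∈ L10, E p.1 p.2 = q := List.mem_map

include h

theorem bl_sq : ∀ q ∈ bl E, q * q = 1 := by
  intro q hq
  obtain ⟨p, hp, rfl⟩ := mem_bl.1 hq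
  exact h.esq _ _ (L10_ne p hp)

theorem bl_comm : ∀ a ∈ bl E, ∀ b ∈ bl E, a * b = b * a := by
  intro a ha b hb
  obtain ⟨p, hp, rfl⟩ := mem_bl.1 ha
  obtain ⟨q, hq, rfl⟩ := mem_bl.1 hb
  exact h.ecomm _ _ _ _ (L10_ne p hp) (L10_ne q hq)

theorem beta_bit (k l : Fin 5) (hkl : k ≠ l) : beta (bl E) (bit k l) = E k l := by
  have key : ∀ p ∈ L10, beta (bl E) (bit p.1 p.2) = E p.1 p.2 := by
    intro p hp
    simp only [L10, List.mem_cons, List.not_mem_nil, or_false] at hp
    rcases hp with rfl | rfl | rfl | rfl | rfl | rfl | rfl | rfl | rfl | rfl <;>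
    · simp [bl, L10, beta_cons, beta_nil, bit, List.findIdx_cons]
  have hs : bit k l = bit l k := by
    have : ∀ k l : Fin 5, bit k l = bit l k := by decide
    exact this k l
  have hm : ∀ k l : Fin 5, k ≠ l → (k, l) ∈ L10 ∨ (l, k) ∈ L10 := by decide
  rcases hm k l hkl with h1 | h1
  · exact key _ h1
  · rw [hs, h.symm k l hkl]
    exact key _ h1

theorem X_inv {i j : Fin 5} (hij : i ≠ j) : (X i j)⁻¹ = X i j :=
  inv_eq_of_mul_eq_one_right (h.sq i j hij)

theorem X_conj_E {i j k l : Fin 5} (hij : i ≠ j) (hkl : k ≠ l) :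
    X i j * E k l * (X i j)⁻¹ = beta (bl E) (img i j k l) := by
  rw [X_inv h hij]
  unfold img
  split_ifs with h1 h2
  · obtain ⟨rfl, hik⟩ := h1
    rw [beta_xor _ (bl_sq h) (bl_comm h), beta_bit h k j hkl, beta_bit h k i (Ne.symm hik)]
    exact h.act1 i j k hij hkl hik
  · obtain ⟨rfl, hil⟩ := h2
    rw [beta_xor _ (bl_sq h) (bl_comm h), beta_bit h j l hkl, beta_bit h i l hil, h.symm j l hkl,
      h.symm i l hil]
    exact h.act1 i j l hij (Ne.symm hkl) hil
  · rw [beta_bit h k l hkl]
    by_cases hjl : j = l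
    · subst hjl
      have hik : i = k := by
        by_contra hik
        exact h1 ⟨rfl, hik⟩
      subst hik
      exact h.act2 i j hij
    · by_cases hjk : j = k
      · subst hjk
        have hil : i = l := by
          by_contra hil
          exact h2 ⟨rfl, hil⟩
        subst hil
        rw [h.symm j i hkl]
        exact h.act2 i j hij
      · exact h.act3 i j k l hij hkl hjk hjl

/-- the action of the transvection `i, j` on the coordinates -/
theorem X_conj {i j : Fin 5} (hij : i ≠ j) (v : ℕ) :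
    X i j * beta (bl E) v * (X i j)⁻¹ = beta (bl E) (lin (AM i j) v) := by
  apply conj_beta (bl E) (bl_sq h) (bl_comm h)
  unfold bl AM
  rw [List.forall₂_map_left_iff, List.forall₂_map_right_iff, List.forall₂_same]
  intro p hp
  exact X_conj_E h hij (L10_ne p hp)

omit h in
/-- the subgroup generated by the basis -/
def A0 (E : Fin 5 → Fin 5 → G) : Subgroup G := Subgroup.closure {q | q ∈ bl E}

omit h in
theorem beta_mem_A0 (v : ℕ) : beta (bl E) v ∈ A0 E :=
  beta_mem _ _ (fun _ ha => Subgroup.subset_closure ha) v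

theorem exists_beta_A0 {q : G} (hq : q ∈ A0 E) : ∃ v < 1024, q = beta (bl E) v := by
  obtain ⟨v, hv, hq'⟩ := exists_beta (bl_sq h) (bl_comm h) hq
  have h10 : (bl E).length = 10 := rfl
  rw [h10] at hv
  exact ⟨v, hv, hq'⟩

theorem X_norm {i j : Fin 5} (hij : i ≠ j) : X i j ∈ Subgroup.normalizer (A0 E : Set G) := by
  rw [Subgroup.mem_normalizer_iff]
  have key : ∀ q ∈ A0 E, X i j * q * (X i j)⁻¹ ∈ A0 E := by
    intro q hq
    obtain ⟨v, -, rfl⟩ := exists_beta_A0 h hq
    rw [X_conj h hij]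
    exact beta_mem_A0 _
  intro q
  constructor
  · exact key q
  · intro hq
    have h1 := key _ hq
    have h2 : X i j * (X i j * q * (X i j)⁻¹) * (X i j)⁻¹ = (X i j * X i j) * q * (X i j * X i j)⁻¹ := by
      group
    rw [h2, h.sq i j hij] at h1
    simpa using h1

end

/-! ### the orbit tables -/

/-- bit field access -/
def tget (t i : ℕ) : ℕ := (t >>> (10 * i)) % 1024

/-- check of an orbit table of length `n` -/
def orbOk (n arr par lt : ℕ) : Bool :=
  (List.range n).all fun i => Nat.beq i 0 ||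
    (Nat.blt (tget par i) i && Nat.blt (tget lt i) 25 && !(Nat.beq (tget lt i / 5) (tget lt i % 5)) &&
      Nat.beq (tget arr i) (lin (AM (Fin.ofNat 5 (tget lt i / 5)) (Fin.ofNat 5 (tget lt i % 5)))
        (tget arr (tget par i))))

theorem orbA_ok : orbOk 155 arrA parA letA = true := by decide +kernel
theorem orbB_ok : orbOk 868 arrB parB letB = true := by decide +kernel
theorem baseA : tget arrA 0 = 1 := by decide +kernel
theorem baseB : tget arrB 0 = 26 := by decide +kernel

/-- the set of the masks of the table, as a number -/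
def bset (n arr : ℕ) : ℕ := (List.range n).foldr (fun i acc => (1 <<< tget arr i) ||| acc) 0

theorem bset_full : bset 155 arrA ||| bset 868 arrB = 2 ^ 1024 - 2 := by decide +kernel

theorem testBit_foldr (f : ℕ → ℕ) (l : List ℕ) (k : ℕ)
    (h : (l.foldr (fun i acc => (1 <<< f i) ||| acc) 0).testBit k = true) : ∃ i ∈ l, f i = k := by
  induction l with
  | nil => simp at h
  | cons a l ih =>
    rw [List.foldr_cons, Nat.testBit_or, Bool.or_eq_true] at h
    rcases h with h | h
    · refine ⟨a, List.mem_cons_self .., ?_⟩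
      rw [Nat.testBit_shiftLeft, Bool.and_eq_true, decide_eq_true_eq,
        Nat.testBit_one_eq_true_iff_self_eq_zero] at h
      omega
    · obtain ⟨i, hi, h⟩ := ih h
      exact ⟨i, List.mem_cons_of_mem _ hi, h⟩

theorem cover {v : ℕ} (hv : v < 1024) (h0 : v ≠ 0) :
    (∃ i < 155, tget arrA i = v) ∨ ∃ i < 868, tget arrB i = v := by
  have h1 : (2 ^ 1024 - 2 : ℕ).testBit v = true := by
    have h2 : ∀ v < 1024, v ≠ 0 → (2 ^ 1024 - 2 : ℕ).testBit v = true := by decide +kernel
    exact h2 v hv h0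
  rw [← bset_full, Nat.testBit_or, Bool.or_eq_true] at h1
  rcases h1 with h1 | h1
  · obtain ⟨i, hi, h⟩ := testBit_foldr _ _ _ h1
    exact Or.inl ⟨i, List.mem_range.1 hi, h⟩
  · obtain ⟨i, hi, h⟩ := testBit_foldr _ _ _ h1
    exact Or.inr ⟨i, List.mem_range.1 hi, h⟩

section

variable {G : Type*} [Group G] {X E : Fin 5 → Fin 5 → G} (h : Rel5 X E)

include h

theorem conj_arr {n arr par lt : ℕ} (hok : orbOk n arr par lt = true) (i : ℕ) (hi : i < n) :
    ∃ m ∈ Subgroup.normalizer (A0 E : Set G),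
      m * beta (bl E) (tget arr 0) * m⁻¹ = beta (bl E) (tget arr i) := by
  induction i using Nat.strong_induction_on with
  | _ i ih =>
    have h1 := hok
    rw [orbOk, List.all_eq_true] at h1
    have h2 := h1 i (List.mem_range.2 hi)
    rw [Bool.or_eq_true, Nat.beq_eq] at h2
    rcases h2 with rfl | h2
    · exact ⟨1, one_mem _, by simp⟩
    · simp only [Bool.and_eq_true, Nat.blt_eq, Nat.beq_eq, Bool.not_eq_true'] at h2
      obtain ⟨⟨⟨h3, h4⟩, h5⟩, h6⟩ := h2
      obtain ⟨m, hm, hmi⟩ := ih _ h3 (by omega)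
      have h7 : (Fin.ofNat 5 (tget lt i / 5)) ≠ (Fin.ofNat 5 (tget lt i % 5)) := by
        intro h8
        have h9 := congrArg Fin.val h8
        simp only [Fin.val_ofNat] at h9
        have h10 : tget lt i / 5 = tget lt i % 5 := by omega
        rw [h10, Nat.beq_refl] at h5
        exact absurd h5 (by decide)
      refine ⟨X _ _ * m, mul_mem (X_norm h h7) hm, ?_⟩
      rw [h6, ← X_conj h h7, ← hmi]
      group

/-- the nontrivial elements of `A₀` lie in two orbits -/
theorem orb_cases {q : G} (hq : q ∈ A0 E) (hq1 : q ≠ 1) :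
    (q ∈ Orbits.orb (A0 E) (beta (bl E) 1) ∧ ∃ i < 155, beta (bl E) (tget arrA i) = q) ∨
    (q ∈ Orbits.orb (A0 E) (beta (bl E) 26) ∧ ∃ i < 868, beta (bl E) (tget arrB i) = q) := by
  obtain ⟨v, hv, rfl⟩ := exists_beta_A0 h hq
  have h0 : v ≠ 0 := by
    rintro rfl
    exact hq1 (beta_zero _)
  rcases cover hv h0 with ⟨i, hi, rfl⟩ | ⟨i, hi, rfl⟩
  · left
    refine ⟨?_, i, hi, rfl⟩
    have h1 := conj_arr h orbA_ok i hi
    rw [baseA] at h1
    exact h1
  · right
    refine ⟨?_, i, hi, rfl⟩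
    have h1 := conj_arr h orbB_ok i hi
    rw [baseB] at h1
    exact h1

/-- elements of the orbit of an element of `A₀` -/
theorem mem_A0_of_orb {q a : G} (ha : a ∈ A0 E) (hq : q ∈ Orbits.orb (A0 E) a) : q ∈ A0 E := by
  obtain ⟨n, hn, rfl⟩ := hq
  exact ((Subgroup.mem_normalizer_iff.1 hn) a).1 ha

omit h in
theorem ne_one_of_orb {q a : G} (ha : a ≠ 1) (hq : q ∈ Orbits.orb (A0 E) a) : q ≠ 1 := by
  obtain ⟨n, hn, rfl⟩ := hq
  intro h1
  apply ha
  calc a = n⁻¹ * (n * a * n⁻¹) * n := by group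
    _ = 1 := by rw [h1]; group

/-- **the lengths of the orbits** -/
theorem ncard_orb [Finite G] (hcard : Nat.card (A0 E) = 1024)
    (hab : ¬ IsConj (beta (bl E) 1) (beta (bl E) 26)) (ha1 : beta (bl E) 1 ≠ 1)
    (hb1 : beta (bl E) 26 ≠ 1) :
    (Orbits.orb (A0 E) (beta (bl E) 1)).ncard = 155 ∧
      (Orbits.orb (A0 E) (beta (bl E) 26)).ncard = 868 := by
  classical
  set a := beta (bl E) 1 with ha
  set b := beta (bl E) 26 with hb
  have hdisj : ∀ q, q ∈ Orbits.orb (A0 E) a → q ∉ Orbits.orb (A0 E) b := by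
    rintro q ⟨n, -, hn⟩ ⟨m, -, hm⟩
    exact hab ((isConj_iff.2 ⟨n, hn⟩).trans (isConj_iff.2 ⟨m, hm⟩).symm)
  have hA : (Orbits.orb (A0 E) a).ncard ≤ 155 := by
    have h1 : Orbits.orb (A0 E) a ⊆
        ((Finset.range 155).image fun i => beta (bl E) (tget arrA i) : Finset G) := by
      intro q hq
      rcases orb_cases h (mem_A0_of_orb h (beta_mem_A0 1) hq) (ne_one_of_orb ha1 hq) with
        ⟨-, i, hi, hq'⟩ | ⟨hq', -⟩
      · rw [Finset.mem_coe, Finset.mem_image]
        exact ⟨i, Finset.mem_range.2 hi, hq'⟩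
      · exact absurd hq' (hdisj q hq)
    have h2 := Set.ncard_le_ncard h1 (Finset.finite_toSet _)
    rw [Set.ncard_coe_finset] at h2
    exact h2.trans (Finset.card_image_le.trans (by rw [Finset.card_range]))
  have hB : (Orbits.orb (A0 E) b).ncard ≤ 868 := by
    have h1 : Orbits.orb (A0 E) b ⊆
        ((Finset.range 868).image fun i => beta (bl E) (tget arrB i) : Finset G) := by
      intro q hq
      rcases orb_cases h (mem_A0_of_orb h (beta_mem_A0 26) hq) (ne_one_of_orb hb1 hq) with
        ⟨hq', -⟩ | ⟨-, i, hi, hq'⟩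
      · exact absurd hq (hdisj q hq')
      · rw [Finset.mem_coe, Finset.mem_image]
        exact ⟨i, Finset.mem_range.2 hi, hq'⟩
    have h2 := Set.ncard_le_ncard h1 (Finset.finite_toSet _)
    rw [Set.ncard_coe_finset] at h2
    exact h2.trans (Finset.card_image_le.trans (by rw [Finset.card_range]))
  have hAB : ((A0 E : Subgroup G) : Set G).ncard ≤
      1 + ((Orbits.orb (A0 E) a).ncard + (Orbits.orb (A0 E) b).ncard) := by
    have h1 : ((A0 E : Subgroup G) : Set G) ⊆
        {1} ∪ (Orbits.orb (A0 E) a ∪ Orbits.orb (A0 E) b) := by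
      intro q hq
      by_cases hq1 : q = 1
      · exact Or.inl hq1
      · rcases orb_cases h hq hq1 with ⟨h1, -⟩ | ⟨h1, -⟩
        · exact Or.inr (Or.inl h1)
        · exact Or.inr (Or.inr h1)
    refine (Set.ncard_le_ncard h1 (Set.toFinite _)).trans ((Set.ncard_union_le _ _).trans ?_)
    rw [Set.ncard_singleton]
    exact Nat.add_le_add_left (Set.ncard_union_le _ _) 1
  have h1 : ((A0 E : Subgroup G) : Set G).ncard = 1024 := hcard
  omega

/-- **irreducibility** -/
theorem irred [Finite G] (hcard : Nat.card (A0 E) = 1024)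
    (hab : ¬ IsConj (beta (bl E) 1) (beta (bl E) 26)) (ha1 : beta (bl E) 1 ≠ 1)
    (hb1 : beta (bl E) 26 ≠ 1) {W : Subgroup G} (hW : W ≤ A0 E)
    (hN : Subgroup.normalizer (A0 E : Set G) ≤ Subgroup.normalizer (W : Set G)) :
    W = ⊥ ∨ W = A0 E := by
  classical
  obtain ⟨hA, hB⟩ := ncard_orb h hcard hab ha1 hb1
  set a := beta (bl E) 1 with ha
  set b := beta (bl E) 26 with hb
  have hdisj : Disjoint (Orbits.orb (A0 E) a) (Orbits.orb (A0 E) b) := by
    rw [Set.disjoint_left]
    rintro q ⟨n, -, hn⟩ ⟨m, -, hm⟩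
    exact hab ((isConj_iff.2 ⟨n, hn⟩).trans (isConj_iff.2 ⟨m, hm⟩).symm)
  -- `W` contains the orbits it meets
  have key : ∀ c q, q ∈ W → q ∈ Orbits.orb (A0 E) c → Orbits.orb (A0 E) c ⊆ W := by
    rintro c q hq ⟨n, hn, rfl⟩ _ ⟨m, hm, rfl⟩
    have h1 : c ∈ W := by
      have h2 := (Subgroup.mem_normalizer_iff.1 (hN (inv_mem hn)) (n * c * n⁻¹)).1 hq
      have h3 : n⁻¹ * (n * c * n⁻¹) * n⁻¹⁻¹ = c := by group
      rwa [h3] at h2
    exact (Subgroup.mem_normalizer_iff.1 (hN hm) c).1 h1
  have hdvd : Nat.card W ∣ 2 ^ 10 := by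
    have := Subgroup.card_dvd_of_le hW
    rw [hcard] at this
    exact this
  obtain ⟨k, hk10, hk⟩ := (Nat.dvd_prime_pow Nat.prime_two).1 hdvd
  have hWn : (W : Set G).ncard = 2 ^ k := hk
  have h1W : (1 : G) ∈ (W : Set G) := W.one_mem
  have ha' : (1 : G) ∉ Orbits.orb (A0 E) a := fun h1 => ne_one_of_orb ha1 h1 rfl
  have hb' : (1 : G) ∉ Orbits.orb (A0 E) b := fun h1 => ne_one_of_orb hb1 h1 rfl
  by_cases hWa : ∃ q ∈ W, q ∈ Orbits.orb (A0 E) a
  · obtain ⟨q, hq, hqa⟩ := hWa
    have hsa := key a q hq hqa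
    by_cases hWb : ∃ q ∈ W, q ∈ Orbits.orb (A0 E) b
    · right
      obtain ⟨q', hq', hqb⟩ := hWb
      have hsb := key b q' hq' hqb
      apply le_antisymm hW
      intro x hx
      by_cases hx1 : x = 1
      · rw [hx1]; exact W.one_mem
      · rcases orb_cases h hx hx1 with ⟨h1, -⟩ | ⟨h1, -⟩
        · exact hsa h1
        · exact hsb h1
    · exfalso
      push Not at hWb
      have e : (W : Set G) = insert 1 (Orbits.orb (A0 E) a) := by
        ext x
        rw [Set.mem_insert_iff]
        constructor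
        · intro hx
          by_cases hx1 : x = 1
          · exact Or.inl hx1
          · rcases orb_cases h (hW hx) hx1 with ⟨h1, -⟩ | ⟨h1, -⟩
            · exact Or.inr h1
            · exact absurd h1 (hWb x hx)
        · rintro (rfl | hx)
          · exact h1W
          · exact hsa hx
      rw [e, Set.ncard_insert_of_notMem ha' (Set.toFinite _), hA] at hWn
      interval_cases k <;> omega
  · push Not at hWa
    by_cases hWb : ∃ q ∈ W, q ∈ Orbits.orb (A0 E) b
    · exfalso
      obtain ⟨q', hq', hqb⟩ := hWb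
      have hsb := key b q' hq' hqb
      have e : (W : Set G) = insert 1 (Orbits.orb (A0 E) b) := by
        ext x
        rw [Set.mem_insert_iff]
        constructor
        · intro hx
          by_cases hx1 : x = 1
          · exact Or.inl hx1
          · rcases orb_cases h (hW hx) hx1 with ⟨h1, -⟩ | ⟨h1, -⟩
            · exact absurd h1 (hWa x hx)
            · exact Or.inr h1
        · rintro (rfl | hx)
          · exact h1W
          · exact hsb hx
      rw [e, Set.ncard_insert_of_notMem hb' (Set.toFinite _), hB] at hWn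
      interval_cases k <;> omega
    · left
      push Not at hWb
      rw [eq_bot_iff]
      intro x hx
      rw [Subgroup.mem_bot]
      by_contra hx1
      rcases orb_cases h (hW hx) hx1 with ⟨h1, -⟩ | ⟨h1, -⟩
      · exact hWa x hx h1
      · exact hWb x hx h1

end

end Cfsg.Agent.H857.T10Act
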