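import Cfsg.Agent.H857.T10Norm
import Cfsg.Agent.AGraded.HomFinite
import Cfsg.Agent.SylowL5.Coords
import Cfsg.Agent.J4.ClassesAbs

/-!
# The complement `L₅(2)` in `N_G(A(O))` (helper857)
-/

set_option autoImplicit false

open scoped Pointwise commutatorElement

namespace Cfsg.Agent.H857.T10Compl

open Matrix
open Cfsg Cfsg.Agent.J4.Beta
open Cfsg.Agent.J4Type
open Cfsg.Agent.H857.WGrp Cfsg.Agent.H857.Normal
open Cfsg.Agent.H857.T10Rel Cfsg.Agent.H857.T10Act Cfsg.Agent.H857.T10Model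

instance simple_SL : IsSimpleGroup (SpecialLinearGroup (Fin 5) (ZMod 2)) := by
  haveI := Cfsg.Agent.S0249.result (F := ZMod 2) 5 (by norm_num)
  let e := Cfsg.Agent.SylowL5.Coords.pslTwo
  haveI : Nontrivial (SpecialLinearGroup (Fin 5) (ZMod 2)) := e.symm.toEquiv.nontrivial
  exact IsSimpleGroup.isSimpleGroup_of_surjective e.toMonoidHom e.surjective

theorem not_isPGroup_SL : ¬ IsPGroup 2 (SpecialLinearGroup (Fin 5) (ZMod 2)) := by
  intro h
  obtain ⟨k, hk⟩ := IsPGroup.iff_card.1 h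
  rw [Cfsg.Agent.SylowL5.Coords.card_SL] at hk
  have h3 : 3 ∣ 2 ^ k := by rw [← hk]; norm_num
  have := Nat.Prime.dvd_of_dvd_pow Nat.prime_three h3
  norm_num at this

variable {G : Type*} [Group G] {X E : Fin 5 → Fin 5 → G}

/-- the root elements -/
def xx (X : Fin 5 → Fin 5 → G) (i j : Fin 5) (a : ZMod 2) : G := if a = 0 then 1 else X i j

theorem steinRel (h : Rel5 X E) : AGraded.SteinRel (xx X) where
  add := by
    intro i j hij a b
    have hcase : ∀ a : ZMod 2, a = 0 ∨ a = 1 := by decide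
    have h10 : (1 : ZMod 2) ≠ 0 := by decide
    have h11 : (1 : ZMod 2) + 1 = 0 := by decide
    rcases hcase a with rfl | rfl <;> rcases hcase b with rfl | rfl <;> unfold xx
    · simp
    · simp
    · simp
    · rw [h11, if_pos rfl, if_neg h10, h.sq i j hij]
  comm := by
    intro i j k l hij hkl hjk hil a b
    unfold xx
    split_ifs
    · rfl
    · rw [one_mul, mul_one]
    · rw [one_mul, mul_one]
    · exact h.comm i j k l hij hkl hjk hil
  br := by
    intro i j k hij hjk hik a b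
    have hcase : ∀ a : ZMod 2, a = 0 ∨ a = 1 := by decide
    have h10 : (1 : ZMod 2) ≠ 0 := by decide
    rcases hcase a with rfl | rfl
    · simp [xx]
    · rcases hcase b with rfl | rfl
      · simp [xx]
      · unfold xx
        rw [mul_one, if_neg h10, if_neg h10, if_neg h10, commutatorElement_def, X_inv h hij,
          X_inv h hjk]
        exact h.br i j k hij hjk hik

theorem E_ne (h : Rel5 X E) (hinj : ∀ v < 1024, beta (bl E) v = 1 → v = 0) {k l : Fin 5}
    (hkl : k ≠ l) : E k l ≠ 1 := by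
  intro h1
  rw [← beta_bit h k l hkl] at h1
  have h2 : ∀ k l : Fin 5, k ≠ l → bit k l < 1024 ∧ bit k l ≠ 0 := by decide
  exact (h2 k l hkl).2 (hinj _ (h2 k l hkl).1 h1)

theorem X_ne (h : Rel5 X E) (hinj : ∀ v < 1024, beta (bl E) v = 1 → v = 0) : X 0 1 ≠ 1 := by
  intro h1
  have h2 := h.act1 0 1 2 (by decide) (by decide) (by decide)
  rw [h1, one_mul, mul_one] at h2
  exact E_ne h hinj (k := 2) (l := 0) (by decide) (mul_eq_left.1 h2.symm)

/-- **the complement** -/
theorem exists_compl [Finite G] (h : Rel5 X E) (hinj : ∀ v < 1024, beta (bl E) v = 1 → v = 0)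
    (hcard : Nat.card (A0 E) = 1024)
    (hN : Nat.card (Subgroup.normalizer (A0 E : Set G)) ≤ 2 ^ 10 * 9999360) :
    ∃ B : Subgroup G, B ≤ Subgroup.normalizer (A0 E : Set G) ∧ B ⊓ A0 E = ⊥ ∧
      B ⊔ A0 E = Subgroup.normalizer (A0 E : Set G) ∧
      Nonempty (B ≃* SpecialLinearGroup (Fin 5) (ZMod 2)) := by
  obtain ⟨π, hπ, hr, hk⟩ := AGraded.exists_hom_finite (steinRel h) (by decide)
  have hker : π.ker = ⊥ := by
    have h1 := hk ⟨0, 1, by decide, 1, by
      unfold xx
      rw [if_neg (by decide : (1 : ZMod 2) ≠ 0)]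
      exact X_ne h hinj⟩
    rw [Cfsg.Agent.SylowL5.Coords.center_eq_bot] at h1
    exact le_bot_iff.1 h1
  have hπi : Function.Injective π := (MonoidHom.ker_eq_bot_iff π).1 hker
  have hBN : π.range ≤ Subgroup.normalizer (A0 E : Set G) := by
    rw [hr, Subgroup.closure_le]
    rintro _ ⟨i, j, hij, a, rfl⟩
    unfold xx
    split_ifs
    · exact one_mem _
    · exact X_norm h hij
  have hA2 : IsPGroup 2 (A0 E) := IsPGroup.of_card (n := 10) (by rw [hcard]; norm_num)
  have hinf : π.range ⊓ A0 E = ⊥ := by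
    rw [eq_bot_iff]
    rintro _ ⟨⟨s, rfl⟩, hs⟩
    rw [Subgroup.mem_bot, Cfsg.Agent.J4.ClassesAbs.eq_one_of_mem (A0 E) hA2 π hπi not_isPGroup_SL
      hBN s hs, map_one]
  refine ⟨π.range, hBN, hinf, ?_, ⟨(MonoidHom.ofInjective hπi).symm⟩⟩
  have hBc : Nat.card π.range = 9999360 := by
    rw [← Nat.card_congr (MonoidHom.ofInjective hπi).toEquiv, Cfsg.Agent.SylowL5.Coords.card_SL]
  apply Subgroup.eq_of_le_of_card_ge (sup_le hBN Subgroup.le_normalizer)
  refine hN.trans ?_
  have h1 : Nat.card (π.range × A0 E) ≤ Nat.card (π.range ⊔ A0 E : Subgroup G) := by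
    refine Nat.card_le_card_of_injective (fun x : π.range × A0 E =>
      (⟨(x.1 : G) * (x.2 : G), (π.range ⊔ A0 E).mul_mem (Subgroup.mem_sup_left x.1.2)
        (Subgroup.mem_sup_right x.2.2)⟩ : (π.range ⊔ A0 E : Subgroup G))) ?_
    rintro ⟨r, a⟩ ⟨s, b⟩ hxy
    have h2 : (r : G) * a = s * b := congrArg Subtype.val hxy
    have h3 : (s : G)⁻¹ * r = b * (a : G)⁻¹ := by
      rw [inv_mul_eq_iff_eq_mul, ← mul_assoc, ← h2, mul_inv_cancel_right]
    have h4 : (s : G)⁻¹ * r ∈ π.range ⊓ A0 E :=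
      ⟨π.range.mul_mem (π.range.inv_mem s.2) r.2, by
        rw [h3]; exact (A0 E).mul_mem b.2 ((A0 E).inv_mem a.2)⟩
    rw [hinf, Subgroup.mem_bot] at h4
    have h5 : (r : G) = s := (inv_mul_eq_one.1 h4).symm
    rw [h4] at h3
    have h6 : (a : G) = b := by
      have := mul_inv_eq_one.1 h3.symm
      exact this.symm
    rw [Prod.mk.injEq]
    exact ⟨Subtype.ext h5, Subtype.ext h6⟩
  rw [Nat.card_prod, hBc, hcard] at h1
  omega

end Cfsg.Agent.H857.T10Compl
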