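import Cfsg.Agent.H857.T10Act
import Cfsg.Agent.H857.Normal
import Cfsg.Agent.H857.EA

/-!
# The transvections of `L₅(2)` in the normaliser of `A(O)` (helper857)

`exists_model` : for `C : J4Type.Compl G`, `G` finite simple, and the octad `O₀ = {7,8,9,10,11,14,17,19}`: there are
`X E` with `Rel5 X E` and `A(O₀) = A0 E`, of order `2^10`.
-/

set_option autoImplicit false

open scoped Pointwise

namespace Cfsg.Agent.H857.T10Model

open Cfsg Cfsg.Agent.SporadicA.GolayBase Cfsg.Agent.SporadicA.OctadFix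
open Cfsg.Agent.SporadicA.GolayPerm (papp pack)
open Cfsg.Agent.J4.M24Hom (XM YM)
open Cfsg.Agent.Lib.F2Mat (force force_eq)
open Cfsg.Agent.Lib.F2MatGroup Cfsg.Agent.J4.Beta
open Cfsg.Agent.J4Type Cfsg.Agent.J4Type.CocodeMask Cfsg.Agent.J4Type.TauM24
open Cfsg.Agent.J4Type.TauMask Cfsg.Agent.J4Type.FrameDefs Cfsg.Agent.J4Type.FinalRel
open Cfsg.Agent.J4Type.CocodeAct
open Cfsg.Agent.H857.Fix Cfsg.Agent.H857.WGrp Cfsg.Agent.H857.Card Cfsg.Agent.H857.Normal
open Cfsg.Agent.H857.T10Data Cfsg.Agent.H857.T10Rel Cfsg.Agent.H857.T10Act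

/-! ### Words in `M24` -/

def PX : ℕ := 521366414552910786153029034648536137
def PY : ℕ := 525297441932761576910024532220217649
def PYi : ℕ := 564244736107816087341282620692793450

theorem tabX : IsTab XM PX := by
  show ∀ p : GolayPt, idx (Cfsg.Agent.J4.M24Hom.X p) = papp PX (idx p)
  decide +kernel

theorem tabY : IsTab YM PY := by
  show ∀ p : GolayPt, idx (Cfsg.Agent.J4.M24Hom.Y p) = papp PY (idx p)
  decide +kernel

theorem tabYi : IsTab YM⁻¹ PYi := by
  show ∀ p : GolayPt, idx (Cfsg.Agent.J4.M24Hom.Y.symm p) = papp PYi (idx p)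
  decide +kernel

/-- the letters in `M24` -/
def lM : List M24 := [1, XM, YM, YM⁻¹, 1]

/-- the tables of the letters -/
def tabL : ℕ → ℕ
  | 1 => PX
  | 2 => PY
  | 3 => PYi
  | _ => pone

theorem g0 : getG lM 0 = 1 := rfl
theorem g1 : getG lM 1 = XM := rfl
theorem g2 : getG lM 2 = YM := rfl
theorem g3 : getG lM 3 = YM⁻¹ := rfl
theorem g4 : getG lM 4 = 1 := rfl
theorem g5 (n : ℕ) : getG lM (n + 5) = 1 := rfl
theorem t0 : tabL 0 = pone := rfl
theorem t1 : tabL 1 = PX := rfl
theorem t2 : tabL 2 = PY := rfl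
theorem t3 : tabL 3 = PYi := rfl
theorem t4 (n : ℕ) : tabL (n + 4) = pone := rfl

theorem isTab_letter (i : ℕ) : IsTab (getG lM i) (tabL i) := by
  match i with
  | 0 => rw [g0, t0]; exact isTab_one
  | 1 => rw [g1, t1]; exact tabX
  | 2 => rw [g2, t2]; exact tabY
  | 3 => rw [g3, t3]; exact tabYi
  | 4 => rw [g4, show tabL 4 = pone from t4 0]; exact isTab_one
  | (n + 5) => rw [g5, show tabL (n + 5) = pone from t4 (n + 1)]; exact isTab_one

/-- run the word, starting with a table, and apply `k` to the resulting table -/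
def tabK : List ℕ → ℕ → (ℕ → Bool) → Bool
  | [], acc, k => k acc
  | i :: w, acc, k => force (tabL i) fun P => force (CocodeMask.pcomp acc P) fun acc' => tabK w acc' k

theorem tabK_cons (i : ℕ) (w : List ℕ) (acc : ℕ) (k : ℕ → Bool) :
    tabK (i :: w) acc k = tabK w (CocodeMask.pcomp acc (tabL i)) k := by
  rw [tabK, force_eq, force_eq]

theorem tabK_sound {w : List ℕ} {acc : ℕ} {k : ℕ → Bool} {g : M24} (hg : IsTab g acc)
    (h : tabK w acc k = true) : ∃ P, IsTab (g * evG lM w) P ∧ k P = true := by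
  induction w generalizing acc g with
  | nil => exact ⟨acc, by rw [evG_nil, mul_one]; exact hg, h⟩
  | cons i w ih =>
    rw [tabK_cons] at h
    obtain ⟨P, hP, hk⟩ := ih (hg.mul (isTab_letter i)) h
    refine ⟨P, ?_, hk⟩
    rwa [evG_cons, ← mul_assoc]

theorem evG_congr {G : Type*} [Group G] {L L' : List G} {w : List ℕ}
    (h : ∀ i ∈ w, getG L i = getG L' i) : evG L w = evG L' w := by
  induction w with
  | nil => rfl
  | cons i w ih =>
    rw [evG_cons, evG_cons, h i (List.mem_cons_self ..),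
      ih (fun j hj => h j (List.mem_cons_of_mem _ hj))]

/-! ### beta -/

section

variable {G : Type*} [Group G]

theorem beta_append (l l' : List G) (v : ℕ) :
    beta (l ++ l') v = beta l v * beta l' (v / 2 ^ l.length) := by
  induction l generalizing v with
  | nil => simp [beta_nil]
  | cons a l ih =>
    rw [List.cons_append, beta_cons, ih, beta_cons, List.length_cons, pow_succ', Nat.div_div_eq_div_mul,
      mul_assoc]

theorem beta_map {H : Type*} [Group H] (f : G →* H) (l : List G) (v : ℕ) :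
    beta (l.map f) v = f (beta l v) := by
  induction l generalizing v with
  | nil => simp [beta_nil]
  | cons a l ih =>
    rw [List.map_cons, beta_cons, beta_cons, map_mul, ih]
    split_ifs <;> simp

theorem beta_c (F : Frame G) (l : List ℕ) (hl : ∀ s ∈ l, ev s = true) (v : ℕ) :
    ev (J4.Beta.lin l v) = true ∧
      beta (l.map fun s => (c F s : G)) v = (c F (J4.Beta.lin l v) : G) := by
  induction l generalizing v with
  | nil =>
    rw [lin_nil, List.map_nil, beta_nil, c_zero]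
    exact ⟨ev_zero, rfl⟩
  | cons s l ih =>
    obtain ⟨h1, h2⟩ := ih (fun t ht => hl t (List.mem_cons_of_mem _ ht)) (v / 2)
    have hs := hl s (List.mem_cons_self ..)
    rw [lin_cons, List.map_cons, beta_cons, h2]
    split_ifs
    · exact ⟨ev_xor hs h1, (c_xor F hs h1).symm⟩
    · exact ⟨h1, by rw [one_mul]⟩

end

/-! ### The data -/

/-- the octad -/
def O0m : ℕ := 675712

/-- the octad -/
def O0 : Finset GolayPt := fin O0m

theorem O0_mem : O0 ∈ octads := by
  rw [O0, fin_mem_octads_iff (by decide)]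
  decide +kernel

/-- masks of the six sextets -/
def MW : List ℕ := [691, 2772, 3524, 3117, 1230, 1415]
/-- four-subsets of the octad -/
def W6 : List ℕ := [541056, 148608, 525952, 133504, 19584, 17280]

theorem W6_ok : ∀ i < 6, W6.getD i 0 < 2 ^ 24 ∧ W6.getD i 0 &&& O0m = W6.getD i 0 ∧
    popcount (W6.getD i 0) % 2 = 0 ∧ (W6.getD i 0 ^^^ enc (W6.getD i 0)) >>> 12 = MW.getD i 0 := by
  decide +kernel

theorem isW_MW {i : ℕ} (hi : i < 6) : IsW O0 (MW.getD i 0) := by
  obtain ⟨h1, h2, h3, h4⟩ := W6_ok i hi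
  refine ⟨fin (W6.getD i 0), ?_, ?_, ?_⟩
  · intro p hp
    rw [O0, mem_fin]
    rw [mem_fin] at hp
    rw [← h2, Nat.testBit_and, Bool.and_eq_true] at hp
    exact hp.2
  · rw [card_fin, Nat.even_iff]
    exact h3
  · rw [msk, maskOf_fin h1, h4]

/-- the word of the basis element `k, l` -/
def wE (p : Fin 5 × Fin 5) : List ℕ := ws.getD (25 + (5 * (p.1 : ℕ) + p.2)) []

/-- the part of the word before / after the letter 0 -/
def pre (w : List ℕ) : List ℕ := w.takeWhile fun i => !(Nat.beq i 0)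
def post (w : List ℕ) : List ℕ := (w.dropWhile fun i => !(Nat.beq i 0)).tail

/-- the first six pairs / the last four pairs -/
def L6 : List (Fin 5 × Fin 5) := [(0, 1), (0, 2), (0, 3), (1, 2), (1, 3), (2, 3)]
def L4 : List (Fin 5 × Fin 5) := [(0, 4), (1, 4), (2, 4), (3, 4)]

def letOk (w : List ℕ) : Bool := w.all fun i => Nat.beq i 1 || Nat.beq i 2 || Nat.beq i 3

/-- check of one of the six sextet words -/
def sixOk (i : ℕ) : Bool :=
  letOk (pre (wE (L6.getD i (0, 0)))) && letOk (post (wE (L6.getD i (0, 0)))) &&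
    tabK (pre (wE (L6.getD i (0, 0)))) pone fun P =>
      Nat.beq (actT P 2179) (MW.getD i 0) &&
        tabK (post (wE (L6.getD i (0, 0)))) P fun Q => Nat.beq Q pone

theorem six_word : ∀ i < 6, wE (L6.getD i (0, 0)) =
    pre (wE (L6.getD i (0, 0))) ++ 0 :: post (wE (L6.getD i (0, 0))) := by
  decide +kernel

theorem six_ok : ∀ i < 6, sixOk i = true := by decide +kernel

/-- check of one of the four words of `M24` -/
def fourOk (p : Fin 5 × Fin 5) : Bool :=
  letOk (wE p) && tabK (wE p) pone fun P =>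
    (List.range 24).all fun i => !(O0m.testBit i) || Nat.beq (papp P i) i

theorem four_ok : ∀ p ∈ L4, fourOk p = true := by decide +kernel

theorem msk_tetB : msk tetB = 2179 := by
  have h : tetB = fin 4196417 := by decide +kernel
  rw [h, msk, maskOf_fin (by norm_num)]
  decide +kernel

/-- the element of `M24` under the basis element -/
def bm (p : Fin 5 × Fin 5) : M24 := evG lM (wE p)

theorem bm_mem {p : Fin 5 × Fin 5} (hp : p ∈ L4) : (bm p : Equiv.Perm GolayPt) ∈ fixOct O0 := by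
  have h := four_ok p hp
  rw [fourOk, Bool.and_eq_true] at h
  obtain ⟨P, hP, h1⟩ := tabK_sound isTab_one h.2
  rw [one_mul] at hP
  rw [List.all_eq_true] at h1
  refine mem_fixOct.2 ⟨(bm p).2, fun x hx => ?_⟩
  apply idx_injective
  have h2 := h1 (idx x) (List.mem_range.2 (idx_lt x))
  have h3 : O0m.testBit (idx x) = true := mem_fin.1 hx
  rw [h3, Bool.not_true, Bool.false_or, Nat.beq_eq] at h2
  exact (hP x).trans h2

/-- image of a point under a product over the bits -/
def imgB : List ℕ → ℕ → ℕ → ℕ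
  | [], _, x => x
  | P :: l, v, x => bif Nat.beq (v % 2) 1 then papp P (imgB l (v / 2) x) else imgB l (v / 2) x

theorem imgB_eq {gs : List M24} {Ps : List ℕ} (h : List.Forall₂ IsTab gs Ps) (v : ℕ)
    (x : GolayPt) : idx (((beta gs v : M24) : Equiv.Perm GolayPt) x) = imgB Ps v (idx x) := by
  induction h generalizing v with
  | nil => rfl
  | @cons g P gs Ps h1 _ ih =>
    rw [beta_cons, imgB]
    by_cases hv : v % 2 = 1
    · rw [if_pos hv, hv]
      show idx ((g : Equiv.Perm GolayPt) (((beta gs (v / 2) : M24) : Equiv.Perm GolayPt) x)) =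
        papp P (imgB Ps (v / 2) (idx x))
      rw [h1, ih]
    · have h0 : v % 2 = 0 := by omega
      rw [if_neg hv, one_mul, h0]
      exact ih _

/-- check of the independence of the four elements of `M24` -/
def indOk : Bool :=
  tabK (wE (0, 4)) pone fun P0 => tabK (wE (1, 4)) pone fun P1 => tabK (wE (2, 4)) pone fun P2 =>
    tabK (wE (3, 4)) pone fun P3 =>
      (List.range 16).all fun u => Nat.beq u 0 || !(Nat.beq (imgB [P0, P1, P2, P3] u 0) 0)

theorem indOk_true : indOk = true := by decide +kernel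

theorem indB {u : ℕ} (hu : u < 16) (h0 : u ≠ 0) : beta (L4.map bm) u ≠ 1 := by
  obtain ⟨P0, h1, h⟩ := tabK_sound isTab_one indOk_true
  obtain ⟨P1, h2, h⟩ := tabK_sound isTab_one h
  obtain ⟨P2, h3, h⟩ := tabK_sound isTab_one h
  obtain ⟨P3, h4, h⟩ := tabK_sound isTab_one h
  rw [one_mul] at h1 h2 h3 h4
  rw [List.all_eq_true] at h
  have h5 := h u (List.mem_range.2 hu)
  rw [Bool.or_eq_true, Nat.beq_eq, Bool.not_eq_true'] at h5
  rcases h5 with h5 | h5
  · exact absurd h5 h0
  · intro h6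
    have h7 := imgB_eq (.cons h1 (.cons h2 (.cons h3 (.cons h4 .nil)))) u (pt 0)
    change idx (((beta (L4.map bm) u : M24) : Equiv.Perm GolayPt) (pt 0)) = _ at h7
    rw [h6, idx_pt (by norm_num)] at h7
    have h8 : idx (((1 : M24) : Equiv.Perm GolayPt) (pt 0)) = 0 := by
      rw [Subgroup.coe_one, Equiv.Perm.one_apply]
      exact idx_pt (by norm_num)
    rw [h8] at h7
    rw [← h7, Nat.beq_refl] at h5
    exact absurd h5 (by decide)

theorem indW : ∀ u < 64, J4.Beta.lin MW u = 0 → u = 0 := by decide +kernel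

theorem duW : J4.Beta.lin MW 26 = st 7 ^^^ st 8 := by decide +kernel

theorem MW_ev : ∀ s ∈ MW, ev s = true := by decide +kernel

section

variable {G : Type*} [Group G] (C : J4Type.Compl G) (f : Cfsg.Spor.J4 →* G)
  (hphi : ∀ g : M24, f (Cfsg.Agent.J4.Pres.phi g) = C.φ g)
  (hs : f Cfsg.Agent.J4.Invol.s = C.ε tetB)

include hphi

theorem letter_eq {i : ℕ} (hi : i = 1 ∨ i = 2 ∨ i = 3) :
    getG (gens5.map f) i = getG (lM.map C.φ) i := by
  have hx : f Cfsg.Agent.J4.Rep112.x = C.φ XM := by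
    rw [← Cfsg.Agent.J4.Pres.phi_X, hphi]
  have hy : f Cfsg.Agent.J4.Rep112.y = C.φ YM := by
    rw [← Cfsg.Agent.J4.Pres.phi_Y, hphi]
  rcases hi with rfl | rfl | rfl
  · exact hx
  · exact hy
  · show f (Cfsg.Agent.J4.Rep112.y)⁻¹ = C.φ YM⁻¹
    rw [map_inv, map_inv, hy]

theorem word_eq {w : List ℕ} (hw : letOk w = true) :
    evG (gens5.map f) w = C.φ (evG lM w) := by
  rw [← evG_map]
  apply evG_congr
  intro i hi
  apply letter_eq C f hphi
  rw [letOk, List.all_eq_true] at hw
  have := hw i hi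
  simp only [Bool.or_eq_true, Nat.beq_eq] at this
  tauto

theorem E_four {p : Fin 5 × Fin 5} (hp : p ∈ L4) : E (gens5.map f) p.1 p.2 = C.φ (bm p) := by
  have h := four_ok p hp
  rw [fourOk, Bool.and_eq_true] at h
  exact word_eq C f hphi h.1

include hs

theorem word_six {u v : List ℕ} {m : ℕ} (hu : letOk u = true) (hv : letOk v = true)
    (hk : (tabK u pone fun P => Nat.beq (actT P 2179) m && tabK v P fun Q => Nat.beq Q pone) = true) :
    evG (gens5.map f) (u ++ 0 :: v) = (c C.toFrame m : G) ∧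
    ∃ g : M24, (c C.toFrame m : G) = C.φ g * C.ε tetB * (C.φ g)⁻¹ := by
  obtain ⟨P, hP, h5⟩ := tabK_sound isTab_one hk
  rw [Bool.and_eq_true, Nat.beq_eq] at h5
  rw [one_mul] at hP
  obtain ⟨Q, hQ, h6⟩ := tabK_sound hP h5.2
  rw [Nat.beq_eq] at h6
  rw [h6] at hQ
  have h7 : evG lM u * evG lM v = 1 := hQ.eq isTab_one
  have hB : Even tetB.card := by
    have : tetB.card = 4 := by decide +kernel
    rw [this]; decide
  have h8 : evG (gens5.map f) (u ++ 0 :: v) =
      C.φ (evG lM u) * C.ε tetB * (C.φ (evG lM u))⁻¹ := by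
    rw [evG_append, evG_cons, word_eq C f hphi hu, word_eq C f hphi hv, ← map_inv,
      inv_eq_of_mul_eq_one_right h7]
    show _ * (f Cfsg.Agent.J4.Invol.s * _) = _
    rw [hs]
    group
  have h9 : C.φ (evG lM u) * C.ε tetB * (C.φ (evG lM u))⁻¹ = (c C.toFrame m : G) := by
    rw [← c_msk C.toFrame hB, φ_c C _ (ev_msk hB), act_eq hP, msk_tetB, h5.1]
  exact ⟨h8.trans h9, _, h9.symm⟩

theorem E_six {i : ℕ} (hi : i < 6) : E (gens5.map f) (L6.getD i (0, 0)).1 (L6.getD i (0, 0)).2 =
      (c C.toFrame (MW.getD i 0) : G) ∧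
    ∃ g : M24, (c C.toFrame (MW.getD i 0) : G) = C.φ g * C.ε tetB * (C.φ g)⁻¹ := by
  have h0 := six_ok i hi
  have h1 := six_word i hi
  rw [sixOk, Bool.and_eq_true, Bool.and_eq_true] at h0
  have h2 := word_six C f hphi hs h0.1.1 h0.1.2 h0.2
  rw [← h1] at h2
  exact h2

theorem bl_eq : bl (E (gens5.map f)) = (MW.map fun s => (c C.toFrame s : G)) ++
    (L4.map bm).map C.φ := by
  have h0 := (E_six C f hphi hs (i := 0) (by norm_num)).1
  have h1 := (E_six C f hphi hs (i := 1) (by norm_num)).1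
  have h2 := (E_six C f hphi hs (i := 2) (by norm_num)).1
  have h3 := (E_six C f hphi hs (i := 3) (by norm_num)).1
  have h4 := (E_six C f hphi hs (i := 4) (by norm_num)).1
  have h5 := (E_six C f hphi hs (i := 5) (by norm_num)).1
  have g0 := E_four C f hphi (p := (0, 4)) (by decide)
  have g1 := E_four C f hphi (p := (1, 4)) (by decide)
  have g2 := E_four C f hphi (p := (2, 4)) (by decide)
  have g3 := E_four C f hphi (p := (3, 4)) (by decide)
  change E (gens5.map f) 0 1 = (c C.toFrame 691 : G) at h0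
  change E (gens5.map f) 0 2 = (c C.toFrame 2772 : G) at h1
  change E (gens5.map f) 0 3 = (c C.toFrame 3524 : G) at h2
  change E (gens5.map f) 1 2 = (c C.toFrame 3117 : G) at h3
  change E (gens5.map f) 1 3 = (c C.toFrame 1230 : G) at h4
  change E (gens5.map f) 2 3 = (c C.toFrame 1415 : G) at h5
  simp only [bl, L10, L4, MW, List.map_cons, List.map_nil, List.cons_append, List.nil_append,
    h0, h1, h2, h3, h4, h5, g0, g1, g2, g3]

theorem beta_eq (v : ℕ) : beta (bl (E (gens5.map f))) v =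
    (c C.toFrame (J4.Beta.lin MW v) : G) * C.φ (beta (L4.map bm) (v / 64)) := by
  rw [bl_eq C f hphi hs, beta_append, (beta_c C.toFrame MW MW_ev v).2, beta_map]
  rfl

theorem beta_one {v : ℕ} (hv : v < 1024) (h : beta (bl (E (gens5.map f))) v = 1) : v = 0 := by
  rw [beta_eq C f hphi hs] at h
  have hev := (beta_c C.toFrame MW MW_ev v).1
  have hE := c_mem C.toFrame hev
  have hN : (c C.toFrame (J4.Beta.lin MW v) : G) * C.φ (beta (L4.map bm) (v / 64)) ∈
      Subgroup.normalizer (C.E hex0 : Set G) := by rw [h]; exact one_mem _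
  have h1 := π_mul hE (beta (L4.map bm) (v / 64)) hN
  have h2 : C.π ⟨_, hN⟩ = 1 := (C.π_ker ⟨_, hN⟩).2 (by
    show (c C.toFrame (J4.Beta.lin MW v) : G) * C.φ (beta (L4.map bm) (v / 64)) ∈ _
    rw [h]; exact one_mem _)
  rw [h2] at h1
  have h3 : v / 64 = 0 := by
    by_contra h3
    exact indB (by omega) h3 h1.symm
  rw [← h1, map_one, mul_one] at h
  have h5 : J4.Beta.lin MW v = 0 := c_inj C.toFrame hev ev_zero (by rw [h, c_zero])
  exact indW v (by omega) h5

theorem A0_le : A0 (E (gens5.map f)) ≤ AG C O0 := by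
  rw [A0, Subgroup.closure_le]
  intro q hq
  have hq' : q ∈ bl (E (gens5.map f)) := hq
  rw [bl_eq C f hphi hs, List.mem_append] at hq'
  rcases hq' with h | h
  · apply WG_le_AG
    rw [List.mem_map] at h
    obtain ⟨s, hs', rfl⟩ := h
    apply c_mem_WG
    have hall : ∀ s ∈ MW, ∃ i < 6, MW.getD i 0 = s := by decide
    obtain ⟨i, hi, rfl⟩ := hall s hs'
    exact isW_MW hi
  · rw [List.mem_map] at h
    obtain ⟨b, hb, rfl⟩ := h
    rw [List.mem_map] at hb
    obtain ⟨p, hp, rfl⟩ := hb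
    exact φ_mem_AG (bm_mem hp)

theorem card_A0_ge [Finite G] (h : Rel5 (X (gens5.map f)) (E (gens5.map f))) :
    1024 ≤ Nat.card (A0 (E (gens5.map f))) := by
  have h1 : Nat.card (Fin 1024) ≤ Nat.card (A0 (E (gens5.map f))) := by
    refine Nat.card_le_card_of_injective
      (fun v : Fin 1024 => (⟨beta (bl (E (gens5.map f))) v, beta_mem_A0 _⟩ : A0 (E (gens5.map f)))) ?_
    intro v w hvw
    have h2 : beta (bl (E (gens5.map f))) v = beta (bl (E (gens5.map f))) w :=
      congrArg Subtype.val hvw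
    have h3 : beta (bl (E (gens5.map f))) ((v : ℕ) ^^^ (w : ℕ)) = 1 := by
      rw [beta_xor _ (bl_sq h) (bl_comm h), h2, beta_sq _ (bl_sq h) (bl_comm h)]
    have h4 := beta_one C f hphi hs (Nat.xor_lt_two_pow (n := 10) v.2 w.2) h3
    exact Fin.ext (Nat.xor_eq_zero_iff.1 h4)
  rwa [Nat.card_eq_fintype_card, Fintype.card_fin] at h1

end

/-- `|A(O)| ≤ 2^10` -/
theorem card_AG_le {G : Type*} [Group G] [Finite G] (C : J4Type.Compl G) {O : Finset GolayPt}
    (hO : O ∈ octads) : Nat.card (AG C O) ≤ 1024 := by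
  rw [card_eq_mul C.toFrame (AG_le_norm O)]
  have h1 : Nat.card (AG C O ⊓ C.E hex0 : Subgroup G) ≤ 64 := by
    rw [AG_inf]
    exact card_WG_le hO
  have h2 : Nat.card (im C.toFrame (AG C O)) ≤ 16 := by
    have h3 : im C.toFrame (AG C O) ≤ fixOct O := by
      intro x hx
      obtain ⟨n, ⟨w, hw, b, hb, hn⟩, rfl⟩ := (mem_im C.toFrame).1 hx
      have h4 := π_mul (WG_le O hw) b (by rw [hn]; exact n.2)
      have h5 : (⟨w * C.φ b, by rw [hn]; exact n.2⟩ : Subgroup.normalizer (C.E hex0 : Set G)) = n :=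
        Subtype.ext hn
      rw [h5] at h4
      show ((C.π n : M24) : Equiv.Perm GolayPt) ∈ _
      rw [h4]
      exact hb
    have h4 := Subgroup.card_le_of_le h3
    rwa [card_fixOct hO] at h4
  exact (Nat.mul_le_mul h1 h2).trans (by norm_num)

theorem pt_mem : pt 7 ∈ O0 ∧ pt 8 ∈ O0 ∧ pt 7 ≠ pt 8 := by
  refine ⟨?_, ?_, ?_⟩
  · rw [O0, mem_fin, idx_pt (by norm_num)]; decide
  · rw [O0, mem_fin, idx_pt (by norm_num)]; decide
  · decide

/-- **the model** -/
theorem exists_model {G : Type*} [Group G] [Finite G] [IsSimpleGroup G] (C : J4Type.Compl G) :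
    ∃ X E : Fin 5 → Fin 5 → G, Rel5 X E ∧ A0 E = AG C O0 ∧ Nat.card (A0 E) = 1024 ∧
      IsConj C.z (beta (bl E) 1) ∧ (∃ p ∈ O0, ∃ q ∈ O0, p ≠ q ∧ beta (bl E) 26 = C.ε {p, q}) ∧
      (∀ v < 1024, beta (bl E) v = 1 → v = 0) := by
  obtain ⟨T, rfl⟩ := TauMain.exists_tau C
  obtain ⟨f, hphi, -, hs, -, -⟩ := (FinalTau.Tau.tauFam T (Rel2.relator2 T)).exists_hom
  have h := rel5_of_hom (Final.rho_injective Cfsg.Agent.S1703.result) f
  have h1 := card_A0_ge T.toCompl f hphi hs h
  have h2 := A0_le T.toCompl f hphi hs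
  have h3 := Subgroup.card_le_of_le h2
  have h4 := card_AG_le T.toCompl O0_mem
  refine ⟨_, _, h, Subgroup.eq_of_le_of_card_ge h2 (by omega), by omega, ?_, ?_, ?_⟩
  · obtain ⟨h5, g, h6⟩ := E_six T.toCompl f hphi hs (i := 0) (by norm_num)
    have h7 : beta (bl (E (gens5.map f))) 1 = E (gens5.map f) 0 1 := beta_bit h 0 1 (by decide)
    have h8 : tetB.card = 4 := by decide +kernel
    rw [h7]
    change E (gens5.map f) 0 1 = _ at h5
    rw [h5, h6]
    exact (DuadCent.isConj_four T.toFrame h8).trans (isConj_iff.2 ⟨_, rfl⟩)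
  · refine ⟨pt 7, pt_mem.1, pt 8, pt_mem.2.1, pt_mem.2.2, ?_⟩
    rw [beta_eq T.toCompl f hphi hs, duW, show 26 / 64 = 0 from rfl, beta_zero, map_one, mul_one,
      ← c_du (F := T.toFrame) pt_mem.2.2]
    rw [du, idx_pt (by norm_num), idx_pt (by norm_num)]
  · intro v hv hv1
    exact beta_one T.toCompl f hphi hs hv hv1

end Cfsg.Agent.H857.T10Model
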