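import Cfsg.Agent.H857.T10Model
import Cfsg.Agent.S0360
import Cfsg.Agent.S0364
import Cfsg.Agent.S0367

/-!
# The order of `N_G(A(O))` (helper857)

`card_norm_le` : `|N_G(A(O₀))| ≤ 2^10 · 9999360`.
-/

set_option autoImplicit false

open scoped Pointwise

namespace Cfsg.Agent.H857.T10Norm

open Cfsg Cfsg.Agent.SporadicA.GolayBase Cfsg.Agent.SporadicA.OctadFix
open Cfsg.Agent.SporadicA.GolayPerm (smul_mem_octads)
open Cfsg.Agent.J4.Beta
open Cfsg.Agent.J4Type Cfsg.Agent.J4Type.FrameDefs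
open Cfsg.Agent.H857.WGrp Cfsg.Agent.H857.Card Cfsg.Agent.H857.Normal
open Cfsg.Agent.H857.T10Rel Cfsg.Agent.H857.T10Act Cfsg.Agent.H857.T10Model

theorem card_stab_octad {O : Finset GolayPt} (hO : O ∈ octads) :
    Nat.card (MulAction.stabilizer M24 O) = 322560 := by
  have h1 : (MulAction.orbit M24 O) = octads := by
    ext S
    constructor
    · rintro ⟨g, rfl⟩
      exact (smul_mem_octads g.2).2 hO
    · intro hS
      obtain ⟨g, hg⟩ := Cfsg.Agent.S0367.result O S hO hS
      exact ⟨g, hg⟩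
  have h2 := (MulAction.stabilizer M24 O).card_mul_index
  rw [MulAction.index_stabilizer, Cfsg.Agent.S0364.result, h1, Cfsg.Agent.S0360.result] at h2
  omega

variable {G : Type*} [Group G] {C : J4Type.Compl G}

/-- a duad in `W(O)` is contained in `O` -/
theorem mem_of_duad {O : Finset GolayPt} (hO : O ∈ octads) {x y : GolayPt} (hxy : x ≠ y)
    (h : C.ε {x, y} ∈ WG C.toFrame O) : x ∈ O := by
  classical
  by_contra hx
  -- an element of `fixOct O` moving `x` to a point different from `x`, `y`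
  obtain ⟨z, hz, hzx, hzy⟩ : ∃ z, z ∉ O ∧ z ≠ x ∧ z ≠ y := by
    by_contra hno
    push Not at hno
    have h1 : (Finset.univ : Finset GolayPt) ⊆ O ∪ {x, y} := by
      intro z _
      by_cases hzO : z ∈ O
      · exact Finset.mem_union_left _ hzO
      · apply Finset.mem_union_right
        rw [Finset.mem_insert, Finset.mem_singleton]
        by_cases hzx : z = x
        · exact Or.inl hzx
        · exact Or.inr (hno z hzO hzx)
    have h2 := (Finset.card_le_card h1).trans (Finset.card_union_le _ _)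
    have h3 := Finset.card_le_two (a := x) (b := y)
    rw [Finset.card_univ, HexMax.card24, octad_card hO] at h2
    omega
  obtain ⟨b, ⟨hb, hbx⟩, -⟩ := existsUnique_fixOct hO hx hz
  have hbM := (mem_fixOct.1 hb).1
  have h1 := φ_comm_WG C (b := ⟨b, hbM⟩) hb h
  have h2 := duad_comm (F := C.toFrame) (n := ⟨C.φ ⟨b, hbM⟩, C.φ_mem _⟩) hxy h1
  have hπ : C.π ⟨C.φ ⟨b, hbM⟩, C.φ_mem _⟩ = ⟨b, hbM⟩ := C.π_φ _
  rw [hπ] at h2
  rcases h2 with h2 | h2
  · exact hzx (hbx ▸ h2)
  · exact hzy (hbx ▸ h2)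

/-- `N_E(A(O))` is a proper subgroup of `E` -/
theorem card_inf_E [Finite G] {O : Finset GolayPt} (hO : O ∈ octads) :
    Nat.card (Subgroup.normalizer (AG C O : Set G) ⊓ C.E hex0 : Subgroup G) ≤ 2 ^ 10 := by
  obtain ⟨p, hp⟩ := FusionComm.exists_out hO
  have hne : O.Nonempty := by
    rw [← Finset.card_pos, octad_card hO]; norm_num
  obtain ⟨o, ho⟩ := hne
  have hpo : p ≠ o := fun h => hp (h ▸ ho)
  have hE : C.ε {p, o} ∈ C.E hex0 := C.ε_mem _ (even_pair' hpo)
  have h1 : C.ε {p, o} ∉ Subgroup.normalizer (AG C O : Set G) ⊓ C.E hex0 := by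
    rintro ⟨h1, -⟩
    obtain ⟨a, ha, b, hb, ha1, hb1, hab⟩ := FusionFact.exists_two_of_card (K := fixOct O)
      (by rw [card_fixOct hO]; norm_num)
    have haM := (mem_fixOct.1 ha).1
    set u : M24 := ⟨a, haM⟩ with hu
    have h2 := ((Subgroup.mem_normalizer_iff.1 h1) (C.φ u)).1 (φ_mem_AG ha)
    have h3 := (AG C O).mul_mem h2 ((AG C O).inv_mem (φ_mem_AG ha : C.φ u ∈ AG C O))
    have h4 := TauMain.φ_ε C u (even_pair' hpo)
    have hao : (u : Equiv.Perm GolayPt) o = o := (mem_fixOct.1 ha).2 o ho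
    have h5 : (u : Equiv.Perm GolayPt) • ({p, o} : Finset GolayPt) =
        {(u : Equiv.Perm GolayPt) p, o} := by
      rw [Finset.smul_finset_insert, Finset.smul_finset_singleton]
      show ({(u : Equiv.Perm GolayPt) p, (u : Equiv.Perm GolayPt) o} : Finset GolayPt) = _
      rw [hao]
    rw [h5] at h4
    have hup : (u : Equiv.Perm GolayPt) p ∉ O := by
      intro h
      have h6 := (mem_fixOct.1 ha).2 _ h
      exact hp ((u : Equiv.Perm GolayPt).injective h6 ▸ h)
    have hupo : (u : Equiv.Perm GolayPt) p ≠ o := fun h => hup (h ▸ ho)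
    have hmv : p ≠ (u : Equiv.Perm GolayPt) p := by
      intro h
      exact ha1 (OctadFixTrans.eq_one_of_fix hO ha hp h.symm)
    have h6 : C.ε {p, o} * C.φ u * (C.ε {p, o})⁻¹ * (C.φ u)⁻¹ =
        C.ε {p, (u : Equiv.Perm GolayPt) p} := by
      have e1 : C.ε {p, o} * C.φ u * (C.ε {p, o})⁻¹ * (C.φ u)⁻¹ =
          C.ε {p, o} * (C.φ u * C.ε {p, o} * (C.φ u)⁻¹)⁻¹ := by group
      rw [e1, h4, inv_eq_of_mul_eq_one_right (ε_sq C.toFrame (even_pair' hupo)),
        Finset.pair_comm p o, Finset.pair_comm ((u : Equiv.Perm GolayPt) p) o,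
        ε_pair_mul (F := C.toFrame) (Ne.symm hpo) (Ne.symm hupo) hmv]
    rw [h6] at h3
    have h7 : C.ε {p, (u : Equiv.Perm GolayPt) p} ∈ AG C O ⊓ C.E hex0 :=
      ⟨h3, C.ε_mem _ (even_pair' hmv)⟩
    rw [AG_inf] at h7
    exact duad_not_mem_WG hO hp hup hmv h7
  have h2 := two_mul_card_le (inf_le_right : Subgroup.normalizer (AG C O : Set G) ⊓ C.E hex0 ≤
    C.E hex0) hE h1
  rw [C.E_card hex0 HexMax.hex0_isHex] at h2
  omega

/-- `|N_G(A(O)) ∩ N_G(E)| ≤ 2^10 · 322560` -/
theorem card_inf_NE [Finite G] {O : Finset GolayPt} (hO : O ∈ octads) :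
    Nat.card (Subgroup.normalizer (AG C O : Set G) ⊓ Subgroup.normalizer (C.E hex0 : Set G) :
      Subgroup G) ≤ 2 ^ 10 * 322560 := by
  rw [card_eq_mul C.toFrame (inf_le_right : Subgroup.normalizer (AG C O : Set G) ⊓
    Subgroup.normalizer (C.E hex0 : Set G) ≤ _)]
  apply Nat.mul_le_mul
  · refine le_trans (Subgroup.card_le_of_le ?_) (card_inf_E (C := C) hO)
    exact inf_le_inf inf_le_left le_rfl
  · have h1 : im C.toFrame (Subgroup.normalizer (AG C O : Set G) ⊓
        Subgroup.normalizer (C.E hex0 : Set G)) ≤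
        (MulAction.stabilizer M24 O).map M24.subtype := by
      intro x hx
      obtain ⟨n, ⟨hn, -⟩, rfl⟩ := (mem_im C.toFrame).1 hx
      refine ⟨C.π n, ?_, rfl⟩
      show (C.π n : M24) • O = O
      have h2 : (C.π n : Equiv.Perm GolayPt) • O = O := by
        apply Classify.smul_eq_of_mapsTo
        intro x hx
        have hO8 : O.card = 8 := octad_card hO
        obtain ⟨y, hy, hyx⟩ := Finset.exists_mem_ne (show 1 < O.card by omega) x
        have h3 : C.ε {x, y} ∈ AG C O ⊓ C.E hex0 := by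
          rw [AG_inf]
          exact duad_mem_WG hx hy hyx.symm
        have h4 : (n : G) * C.ε {x, y} * (n : G)⁻¹ ∈ AG C O ⊓ C.E hex0 :=
          ⟨((Subgroup.mem_normalizer_iff.1 hn) _).1 h3.1,
            ((Subgroup.mem_normalizer_iff.1 n.2) _).1 h3.2⟩
        rw [AG_inf, C.π_smul n _ (even_pair' hyx.symm), Finset.smul_finset_insert,
          Finset.smul_finset_singleton] at h4
        apply mem_of_duad (C := C) hO (y := (C.π n : Equiv.Perm GolayPt) y) _ h4
        intro h5
        exact hyx ((C.π n : Equiv.Perm GolayPt).injective h5).symm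
      exact h2
    refine le_trans (Subgroup.card_le_of_le h1) ?_
    rw [← card_stab_octad hO]
    exact (Nat.card_congr ((MulAction.stabilizer M24 O).equivMapOfInjective _
      (Subgroup.subtype_injective _)).toEquiv).symm.le

/-! ### The conjugates of `E` under `N_G(A)` -/

/-- the duads of `O` in `E` -/
def duadsIn (C : J4Type.Compl G) (O : Finset GolayPt) : Set G :=
  {v | ∃ p ∈ O, ∃ q ∈ O, p ≠ q ∧ v = C.ε {p, q}}

theorem ncard_duadsIn {O : Finset GolayPt} (hO : O ∈ octads) : (duadsIn C O).ncard = 28 := by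
  classical
  have h1 : duadsIn C O = ((Finset.powersetCard 2 O).image C.ε : Set G) := by
    ext v
    simp only [duadsIn, Set.mem_ofPred_eq, Finset.coe_image, Set.mem_image, Finset.mem_coe,
      Finset.mem_powersetCard]
    constructor
    · rintro ⟨p, hp, q, hq, hpq, rfl⟩
      refine ⟨{p, q}, ⟨?_, Finset.card_pair hpq⟩, rfl⟩
      intro x hx
      rw [Finset.mem_insert, Finset.mem_singleton] at hx
      rcases hx with rfl | rfl <;> assumption
    · rintro ⟨S, ⟨hSO, hS⟩, rfl⟩
      obtain ⟨p, q, hpq, rfl⟩ := Finset.card_eq_two.1 hS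
      exact ⟨p, hSO (by simp), q, hSO (by simp), hpq, rfl⟩
  rw [h1, Set.ncard_coe_finset, Finset.card_image_of_injOn, Finset.card_powersetCard,
    octad_card hO]
  · decide
  · intro S hS T hT h
    rw [Finset.mem_coe, Finset.mem_powersetCard] at hS hT
    exact Orbits.ε_pair_inj C.toFrame hS.2 hT.2 h

/-- a duad determines the conjugate of `E` containing it -/
theorem mem_norm_of_conj [Finite G] {g : G} {p q r s : GolayPt} (hpq : p ≠ q) (hrs : r ≠ s)
    (h : g * C.ε {p, q} * g⁻¹ = C.ε {r, s}) : g ∈ Subgroup.normalizer (C.E hex0 : Set G) := by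
  obtain ⟨n, hn, h1⟩ := CloseInst.conj_duad C.toFrame hpq hrs
  have h2 : n⁻¹ * g ∈ Subgroup.normalizer (C.E hex0 : Set G) := by
    apply DuadCent.duad_cent C.toFrame hpq
    have h3 : g * C.ε {p, q} * g⁻¹ = n * C.ε {p, q} * n⁻¹ := h.trans h1.symm
    calc n⁻¹ * g * C.ε {p, q} = n⁻¹ * (g * C.ε {p, q} * g⁻¹) * g := by group
      _ = n⁻¹ * (n * C.ε {p, q} * n⁻¹) * g := by rw [h3]
      _ = _ := by group
  have h3 := mul_mem hn h2
  rwa [mul_inv_cancel_left] at h3

theorem card_norm_le [Finite G] {X E : Fin 5 → Fin 5 → G} (h : Rel5 X E)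
    (hA : A0 E = AG C O0) (hcard : Nat.card (A0 E) = 1024)
    (hz : IsConj C.z (beta (bl E) 1))
    (hd : ∃ p ∈ O0, ∃ q ∈ O0, p ≠ q ∧ beta (bl E) 26 = C.ε {p, q})
    (ha1 : beta (bl E) 1 ≠ 1) (hb1 : beta (bl E) 26 ≠ 1) :
    Nat.card (Subgroup.normalizer (A0 E : Set G)) ≤ 2 ^ 10 * 9999360 := by
  classical
  obtain ⟨p0, hp0, q0, hq0, hpq0, hb⟩ := hd
  have hab : ¬ IsConj (beta (bl E) 1) (beta (bl E) 26) := by
    intro h1
    rw [hb] at h1
    exact C.duad_not_conj p0 q0 hpq0 (hz.trans h1)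
  obtain ⟨-, hB⟩ := ncard_orb h hcard hab ha1 hb1
  set N := Subgroup.normalizer (A0 E : Set G) with hN
  set S : Subgroup N := (Subgroup.normalizer (C.E hex0 : Set G)).subgroupOf N with hS
  have hScard : Nat.card S ≤ 2 ^ 10 * 322560 := by
    refine le_trans ?_ (card_inf_NE (C := C) O0_mem)
    refine Nat.card_le_card_of_injective (fun s : S => (⟨((s : N) : G), ?_, s.2⟩ :
      (Subgroup.normalizer (AG C O0 : Set G) ⊓ Subgroup.normalizer (C.E hex0 : Set G) :
        Subgroup G))) ?_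
    · rw [← hA]
      exact (s : N).2
    · intro s t hst
      have h' : ((s : N) : G) = ((t : N) : G) := by
        have := congrArg Subtype.val hst
        exact this
      exact Subtype.ext (Subtype.ext h')
  have hidx : S.index ≤ 31 := by
    have key : Nat.card ((N ⧸ S) × duadsIn C O0) ≤ Nat.card (Orbits.orb (A0 E) (beta (bl E) 26)) := by
      have hmem : ∀ (n : N) (d : duadsIn C O0), (n : G) * d * (n : G)⁻¹ ∈
          Orbits.orb (A0 E) (beta (bl E) 26) := by
        intro n d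
        obtain ⟨p, hp, q, hq, hpq, hdd⟩ := d.2
        have h1 : (d : G) ∈ A0 E := by
          rw [hA, hdd]
          exact WG_le_AG _ (duad_mem_WG hp hq hpq)
        have h2 : (d : G) ≠ 1 := by
          rw [hdd]
          intro h3
          have h4 := (C.ε_ker _ (even_pair' hpq)).1 h3
          have h5 := SporadicA.GolayBase.card_of_mem_supports h4
          rw [Finset.card_pair hpq] at h5
          omega
        rcases orb_cases h h1 h2 with ⟨⟨m, hm, h3⟩, -⟩ | ⟨⟨m, hm, h3⟩, -⟩
        · exfalso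
          apply C.duad_not_conj p q hpq
          rw [← hdd, ← h3]
          exact hz.trans (isConj_iff.2 ⟨m, rfl⟩)
        · refine ⟨(n : G) * m, mul_mem n.2 hm, ?_⟩
          rw [← h3]
          group
      refine Nat.card_le_card_of_injective (fun x : (N ⧸ S) × duadsIn C O0 =>
        (⟨(x.1.out : G) * x.2 * (x.1.out : G)⁻¹, hmem _ _⟩ :
          Orbits.orb (A0 E) (beta (bl E) 26))) ?_
      rintro ⟨a, d⟩ ⟨b, e⟩ hxy
      have h1 : (a.out : G) * d * (a.out : G)⁻¹ = (b.out : G) * e * (b.out : G)⁻¹ :=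
        congrArg Subtype.val hxy
      obtain ⟨p, hp, q, hq, hpq, hdd⟩ := d.2
      obtain ⟨r, hr, s, hs, hrs, hee⟩ := e.2
      have h2 : ((b.out : G)⁻¹ * a.out) * d * ((b.out : G)⁻¹ * a.out)⁻¹ = e := by
        calc ((b.out : G)⁻¹ * a.out) * d * ((b.out : G)⁻¹ * a.out)⁻¹
            = (b.out : G)⁻¹ * ((a.out : G) * d * (a.out : G)⁻¹) * b.out := by group
          _ = (b.out : G)⁻¹ * ((b.out : G) * e * (b.out : G)⁻¹) * b.out := by rw [h1]
          _ = e := by group
      have h3 : (b.out : G)⁻¹ * a.out ∈ Subgroup.normalizer (C.E hex0 : Set G) := by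
        apply mem_norm_of_conj hpq hrs
        rw [← hdd, ← hee]
        exact h2
      have h4 : b = a := by
        rw [← QuotientGroup.out_eq' a, ← QuotientGroup.out_eq' b, QuotientGroup.eq]
        exact h3
      subst h4
      rw [Prod.mk.injEq]
      refine ⟨rfl, Subtype.ext ?_⟩
      exact mul_left_cancel (mul_right_cancel h1)
    have h1 : Nat.card (Orbits.orb (A0 E) (beta (bl E) 26)) = 868 := hB
    have h2 : Nat.card (duadsIn C O0) = 28 := ncard_duadsIn O0_mem
    rw [Nat.card_prod, h1, h2] at key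
    have h3 : Nat.card (N ⧸ S) = S.index := rfl
    omega
  rw [← S.card_mul_index]
  exact (Nat.mul_le_mul hScard hidx).trans (by norm_num)

end Cfsg.Agent.H857.T10Norm
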