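import Cfsg.Agent.H857.T10Data

/-!
# J₄: the relations between the transvections of `L₅(2)` and the basis of `2^10` (helper857)

`rel5` : in the presented group J₄ the 50 words of `T10Data.ws` satisfy the Steinberg relations of type `A₄` over
`GF(2)` and the action relations of the exterior square.
-/

set_option autoImplicit false

namespace Cfsg.Agent.H857.T10Rel

open Cfsg Cfsg.Agent.Lib.F2MatGroup Cfsg.Agent.J4.Rep112 Cfsg.Agent.J4.RepData
open Cfsg.Agent.H857.T10Data

/-! ### programs made of independent words -/

/-- the words of the list, as a straight line program -/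
def sprog : ℕ → List (List ℕ) → List (List ℕ)
  | _, [] => []
  | k, w :: ws => w.map (fun i => i + k) :: sprog (k + 1) ws

section

variable {G : Type*} [Group G]

theorem getG_shift (P L : List G) (i : ℕ) : getG (P ++ L) (i + P.length) = getG L i := by
  induction P with
  | nil => rfl
  | cons a P ih =>
    show getG (a :: (P ++ L)) (i + (P.length + 1)) = _
    rw [← add_assoc]
    exact ih

theorem evG_shift (P L : List G) (w : List ℕ) :
    evG (P ++ L) (w.map (fun i => i + P.length)) = evG L w := by
  induction w with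
  | nil => rfl
  | cons a w ih => rw [List.map_cons, evG_cons, evG_cons, ih, getG_shift]

theorem runG_sprog (ws : List (List ℕ)) (P L : List G) :
    runG (sprog P.length ws) (P ++ L) = (ws.map (evG L)).reverse ++ (P ++ L) := by
  induction ws generalizing P with
  | nil => rfl
  | cons w ws ih =>
    rw [sprog, runG_cons, evG_shift, ← List.cons_append,
      show P.length + 1 = (evG L w :: P).length from rfl, ih, List.map_cons, List.reverse_cons,
      List.append_assoc]
    rfl

/-- the value of the `n`-th word -/
def val (L : List G) (n : ℕ) : G := evG L (ws.getD n [])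

theorem ws_length : ws.length = 50 := by decide +kernel

theorem getG_run (L : List G) {n : ℕ} (hn : n < 50) :
    getG (runG (sprog 0 ws) L) (49 - n) = val L n := by
  have h := runG_sprog ws [] L
  rw [List.nil_append, List.length_nil] at h
  rw [h]
  unfold getG val
  have h1 : 49 - n < ((ws.map (evG L)).reverse).length := by
    rw [List.length_reverse, List.length_map, ws_length]; omega
  rw [List.getD_append _ _ _ _ h1, List.getD_eq_getElem _ _ h1, List.getElem_reverse]
  have h2 : n < ws.length := by rw [ws_length]; exact hn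
  rw [List.getElem_map, List.getD_eq_getElem _ _ h2]
  congr 2
  rw [List.length_map, ws_length]
  omega

theorem val_map {H : Type*} [Group H] (f : G →* H) (L : List G) (n : ℕ) :
    val (L.map f) n = f (val L n) := evG_map f L _

end

/-! ### the relations -/

/-- index of a transvection -/
def ix (i j : ℕ) : ℕ := 49 - (5 * i + j)
/-- index of a basis element -/
def iy (k l : ℕ) : ℕ := 49 - (25 + (5 * k + l))

/-- the relations for a given quadruple -/
def pr (i j k l : ℕ) : List (List ℕ × List ℕ) :=
  bif Nat.beq i j || Nat.beq k l then [] else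
  [([iy k l], [iy l k]), ([iy i j, iy k l], [iy k l, iy i j]),
    ([ix i j, iy k l, ix i j], bif Nat.beq j l && !(Nat.beq i k) then [iy k l, iy k i]
      else bif Nat.beq j k && !(Nat.beq i l) then [iy k l, iy i l] else [iy k l])] ++
  (bif Nat.beq i k && Nat.beq j l then [([ix i j, ix i j], []), ([iy i j, iy i j], [])] else []) ++
  (bif Nat.beq j k then (bif Nat.beq i l then [] else
    [([ix i j, ix k l, ix i j, ix k l], [ix i l])]) else
    (bif Nat.beq i l then [] else [([ix i j, ix k l], [ix k l, ix i j])]))

/-- all relations -/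
def es : List (List ℕ × List ℕ) :=
  (List.range 5).flatMap fun i => (List.range 5).flatMap fun j =>
    (List.range 5).flatMap fun k => (List.range 5).flatMap fun l => pr i j k l

theorem mem_es {i j k l : ℕ} (hi : i < 5) (hj : j < 5) (hk : k < 5) (hl : l < 5)
    {p : List ℕ × List ℕ} (hp : p ∈ pr i j k l) : p ∈ es := by
  unfold es
  simp only [List.mem_flatMap, List.mem_range]
  exact ⟨i, hi, j, hj, k, hk, l, hl, hp⟩

/-- packed matrices of the letters -/
def codes5 : List ℕ := [S, X, Y, YI, T]

theorem check_ok : check 112 codes5 (sprog 0 ws) es [] = true := by decide +kernel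

/-- the letters -/
def gens5 : List Cfsg.Spor.J4 := [Cfsg.Agent.J4.Invol.s, x, y, y⁻¹, t]

theorem codes_cast {n : ℕ} {g : GL (Fin n) (ZMod 2)} {A B : ℕ} (h : Codes n g A)
    (e : Nat.beq A B = true) : Codes n g B := Nat.eq_of_beq_eq_true e ▸ h

theorem cS : Codes 112 (rho Cfsg.Agent.J4.Invol.s) S := by
  have h : rho Cfsg.Agent.J4.Invol.s = (yg * ((yg * xg) ^ 4 * yg⁻¹ * xg)⁻¹ * tg *
      ((yg * xg) ^ 4 * yg⁻¹ * xg)) ^ 3 := by
    simp only [Cfsg.Agent.J4.Invol.s, Cfsg.Agent.J4.Invol.wJ, map_pow, map_mul, map_inv, rho_x, rho_y,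
      rho_t]
  rw [h]
  simp only [mul_inv_rev, inv_inv, ← inv_pow]
  apply codes_cast
  · codes_tac
  · decide +kernel

theorem codes_gens5 : List.Forall₂ (Codes 112) (gens5.map rho) codes5 := by
  unfold gens5 codes5
  simp only [List.map_cons, List.map_nil, map_inv, rho_x, rho_y, rho_t]
  exact .cons cS (.cons cx (.cons cy (.cons cy' (.cons ct .nil))))

theorem es_ok (inj : Function.Injective rho) :
    ∀ p ∈ es, evG (runG (sprog 0 ws) gens5) p.1 = evG (runG (sprog 0 ws) gens5) p.2 := by
  intro p hp
  have h := (check_sound (by norm_num) codes_gens5 check_ok).1 p hp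
  rw [runG_map, evG_map, evG_map] at h
  exact inj h

/-- the relations of the transvections `X i j` and of the basis `E k l` -/
structure Rel5 {G : Type*} [Group G] (X E : Fin 5 → Fin 5 → G) : Prop where
  sq : ∀ i j, i ≠ j → X i j * X i j = 1
  comm : ∀ i j k l, i ≠ j → k ≠ l → j ≠ k → i ≠ l → X i j * X k l = X k l * X i j
  br : ∀ i j l, i ≠ j → j ≠ l → i ≠ l → X i j * X j l * X i j * X j l = X i l
  symm : ∀ k l, k ≠ l → E k l = E l k
  esq : ∀ k l, k ≠ l → E k l * E k l = 1
  ecomm : ∀ i j k l, i ≠ j → k ≠ l → E i j * E k l = E k l * E i j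
  act1 : ∀ i j k, i ≠ j → k ≠ j → i ≠ k → X i j * E k j * X i j = E k j * E k i
  act2 : ∀ i j, i ≠ j → X i j * E i j * X i j = E i j
  act3 : ∀ i j k l, i ≠ j → k ≠ l → j ≠ k → j ≠ l → X i j * E k l * X i j = E k l

section

variable {G : Type*} [Group G]

/-- the transvections -/
def X (L : List G) (i j : Fin 5) : G := val L (5 * i + j)
/-- the basis elements -/
def E (L : List G) (k l : Fin 5) : G := val L (25 + (5 * k + l))

theorem getG_ix (L : List G) (i j : Fin 5) : getG (runG (sprog 0 ws) L) (ix i j) = X L i j :=
  getG_run L (by omega)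

theorem getG_iy (L : List G) (k l : Fin 5) : getG (runG (sprog 0 ws) L) (iy k l) = E L k l :=
  getG_run L (by omega)

theorem beq_ne {a b : Fin 5} (h : a ≠ b) : Nat.beq (a : ℕ) (b : ℕ) = false := by
  rcases hb : Nat.beq (a : ℕ) (b : ℕ) with _ | _
  · rfl
  · exact absurd (Fin.ext (Nat.eq_of_beq_eq_true hb)) h

theorem rel5 (L : List G)
    (h : ∀ p ∈ es, evG (runG (sprog 0 ws) L) p.1 = evG (runG (sprog 0 ws) L) p.2) :
    Rel5 (X L) (E L) := by
  have key : ∀ (i j k l : Fin 5) (p : List ℕ × List ℕ), p ∈ pr i j k l →
      evG (runG (sprog 0 ws) L) p.1 = evG (runG (sprog 0 ws) L) p.2 :=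
    fun i j k l p hp => h p (mem_es i.2 j.2 k.2 l.2 hp)
  refine ⟨?_, ?_, ?_, ?_, ?_, ?_, ?_, ?_, ?_⟩
  · intro i j hij
    have := key i j i j ([ix i j, ix i j], []) (by
      simp [pr, beq_ne hij, beq_ne hij.symm])
    simpa only [evG_cons, evG_nil, mul_one, getG_ix] using this
  · intro i j k l hij hkl hjk hil
    have := key i j k l ([ix i j, ix k l], [ix k l, ix i j]) (by
      simp [pr, beq_ne hij, beq_ne hkl, beq_ne hjk, beq_ne hil])
    simpa only [evG_cons, evG_nil, mul_one, getG_ix] using this
  · intro i j l hij hjl hil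
    have := key i j j l ([ix i j, ix j l, ix i j, ix j l], [ix i l]) (by
      simp [pr, beq_ne hij, beq_ne hjl, beq_ne hil])
    simpa only [evG_cons, evG_nil, mul_one, getG_ix, ← mul_assoc] using this
  · intro k l hkl
    have := key k l k l ([iy k l], [iy l k]) (by
      simp [pr, beq_ne hkl])
    simpa only [evG_cons, evG_nil, mul_one, getG_iy] using this
  · intro k l hkl
    have := key k l k l ([iy k l, iy k l], []) (by
      simp [pr, beq_ne hkl])
    simpa only [evG_cons, evG_nil, mul_one, getG_iy] using this
  · intro i j k l hij hkl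
    have := key i j k l ([iy i j, iy k l], [iy k l, iy i j]) (by
      simp [pr, beq_ne hij, beq_ne hkl])
    simpa only [evG_cons, evG_nil, mul_one, getG_iy] using this
  · intro i j k hij hkj hik
    have := key i j k j ([ix i j, iy k j, ix i j], [iy k j, iy k i]) (by
      simp [pr, beq_ne hij, beq_ne hkj, beq_ne hik])
    simpa only [evG_cons, evG_nil, mul_one, getG_iy, getG_ix, ← mul_assoc] using this
  · intro i j hij
    have := key i j i j ([ix i j, iy i j, ix i j], [iy i j]) (by
      simp [pr, beq_ne hij, beq_ne hij.symm])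
    simpa only [evG_cons, evG_nil, mul_one, getG_iy, getG_ix, ← mul_assoc] using this
  · intro i j k l hij hkl hjk hjl
    have := key i j k l ([ix i j, iy k l, ix i j], [iy k l]) (by
      simp [pr, beq_ne hij, beq_ne hkl, beq_ne hjk, beq_ne hjl])
    simpa only [evG_cons, evG_nil, mul_one, getG_iy, getG_ix, ← mul_assoc] using this

/-- the relations hold in the images of J₄ -/
theorem rel5_of_hom (inj : Function.Injective rho) (f : Cfsg.Spor.J4 →* G) :
    Rel5 (X (gens5.map f)) (E (gens5.map f)) := by
  apply rel5
  intro p hp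
  rw [runG_map, evG_map, evG_map, es_ok inj p hp]

end

end Cfsg.Agent.H857.T10Rel
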