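import Cfsg.Agent.H857.Fix
import Cfsg.Agent.H857.Card
import Cfsg.Agent.H857.Orbits
import Cfsg.Agent.J4Type.OctadFixTrans

/-!
# The subgroup `W(O) ≤ E` of the even subsets of an octad (helper857)

* `card_WG_le` : `|W(O)| ≤ 64`;
* `cases_of_comm` : `C_E(n) ⊆ W(O) ∪ ε{p, up} W(O)` if `π n = u` is an involution fixing `O` pointwise;
* `le_WG` : `C_E(n) ∩ C_E(m) ≤ W(O)` if `π n ≠ π m` are two such involutions;
* `four_mul_card`, `two_mul_card` : bounds for `C_W(n)`.
-/

set_option autoImplicit false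

open scoped Pointwise

namespace Cfsg.Agent.H857.WGrp

open Cfsg Cfsg.Agent.SporadicA.GolayBase Cfsg.Agent.SporadicA.OctadFix
open Cfsg.Agent.J4Type Cfsg.Agent.J4Type.CocodeMask
open Cfsg.Agent.J4Type.CocodeAct Cfsg.Agent.J4Type.TauM24 Cfsg.Agent.J4Type.TauMask
open Cfsg.Agent.J4Type.FrameDefs Cfsg.Agent.H857.Fix

variable {G : Type*} [Group G]

theorem even_pair' {p q : GolayPt} (hpq : p ≠ q) : Even ({p, q} : Finset GolayPt).card := by
  rw [Finset.card_pair hpq]; decide

section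

variable (F : Frame G)

/-- the subgroup `W(O)` -/
def WG (O : Finset GolayPt) : Subgroup G where
  carrier := {a | ∃ S ⊆ O, Even S.card ∧ F.ε S = a}
  one_mem' := ⟨∅, Finset.empty_subset _, by simp, ε_empty F⟩
  mul_mem' := by
    rintro _ _ ⟨S, hS, hSe, rfl⟩ ⟨T, hT, hTe, rfl⟩
    exact ⟨symmDiff S T, Finset.symmDiff_subset_union.trans (Finset.union_subset hS hT),
      even_symmDiff hSe hTe, F.ε_mul S T hSe hTe⟩
  inv_mem' := by
    rintro _ ⟨S, hS, hSe, rfl⟩
    exact ⟨S, hS, hSe, (inv_eq_of_mul_eq_one_right (ε_sq F hSe)).symm⟩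

variable {F}

theorem mem_WG {O : Finset GolayPt} {a : G} : a ∈ WG F O ↔ ∃ S ⊆ O, Even S.card ∧ F.ε S = a :=
  Iff.rfl

theorem WG_le (O : Finset GolayPt) : WG F O ≤ F.E hex0 := by
  rintro _ ⟨S, -, hSe, rfl⟩
  exact F.ε_mem S hSe

theorem c_mem_WG {O : Finset GolayPt} {s : ℕ} (h : IsW O s) : (c F s : G) ∈ WG F O := by
  obtain ⟨S, hS, hSe, rfl⟩ := h
  exact ⟨S, hS, hSe, (c_msk F hSe).symm⟩

theorem isW_of_mem {O : Finset GolayPt} {s : ℕ} (hs : ev s = true) (h : (c F s : G) ∈ WG F O) :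
    IsW O s := by
  obtain ⟨S, hS, hSe, h⟩ := h
  rw [← c_msk F hSe] at h
  exact ⟨S, hS, hSe, c_inj F (ev_msk hSe) hs h⟩

theorem c_du {p q : GolayPt} (hpq : p ≠ q) : (c F (du p q) : G) = F.ε {p, q} := by
  rw [← msk_pair hpq, c_msk F (even_pair' hpq)]

theorem duad_mem_WG {O : Finset GolayPt} {p q : GolayPt} (hp : p ∈ O) (hq : q ∈ O) (hpq : p ≠ q) :
    F.ε {p, q} ∈ WG F O := by
  rw [← c_du hpq]
  exact c_mem_WG (isW_du hp hq)

theorem duad_not_mem_WG {O : Finset GolayPt} (hO : O ∈ octads) {p q : GolayPt} (hp : p ∉ O)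
    (hq : q ∉ O) (hpq : p ≠ q) : F.ε {p, q} ∉ WG F O := by
  rw [← c_du hpq]
  exact fun h => not_isW_du hO hp hq hpq (isW_of_mem (ev_du _ _) h)

theorem card_WG_le {O : Finset GolayPt} (hO : O ∈ octads) : Nat.card (WG F O) ≤ 64 := by
  classical
  have hO8 : O.card = 8 := octad_card hO
  obtain ⟨x, hx, y, hy, hxy⟩ := Finset.one_lt_card.1 (show 1 < O.card by omega)
  let O' : Finset GolayPt := (O.erase x).erase y
  have hO' : O'.card = 6 := by
    have h1 : y ∈ O.erase x := Finset.mem_erase.2 ⟨hxy.symm, hy⟩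
    rw [Finset.card_erase_of_mem h1, Finset.card_erase_of_mem hx, hO8]
  let f : Finset GolayPt → G := fun T => if Even T.card then F.ε T else F.ε (insert y T)
  have key : ∀ S ⊆ O, Even S.card → x ∉ S → ∃ T ∈ O'.powerset, F.ε S = f T := by
    intro S hS hSe hxS
    refine ⟨S.erase y, ?_, ?_⟩
    · rw [Finset.mem_powerset]
      intro z hz
      rw [Finset.mem_erase] at hz
      rw [Finset.mem_erase, Finset.mem_erase]
      exact ⟨hz.1, fun h => hxS (h ▸ hz.2), hS hz.2⟩
    · show _ = if Even (S.erase y).card then F.ε (S.erase y) else F.ε (insert y (S.erase y))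
      by_cases hyS : y ∈ S
      · have h1 := Finset.card_erase_add_one hyS
        rw [if_neg, Finset.insert_erase hyS]
        rw [Nat.even_iff] at hSe ⊢
        omega
      · rw [Finset.erase_eq_of_notMem hyS, if_pos hSe]
  have key2 : ∀ a ∈ WG F O, a ∈ O'.powerset.image f := by
    rintro _ ⟨S, hS, hSe, rfl⟩
    rw [Finset.mem_image]
    by_cases hxS : x ∈ S
    · have h1 : F.ε (O \ S) = F.ε S := by
        have h2 : symmDiff O S = O \ S := by
          ext z
          rw [Finset.mem_symmDiff, Finset.mem_sdiff]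
          constructor
          · rintro (h | h)
            · exact h
            · exact absurd (hS h.1) h.2
          · exact Or.inl
        have hOe : Even O.card := by rw [hO8]; decide
        rw [← h2, F.ε_mul O S hOe hSe, (F.ε_ker O hOe).2 hO.1, one_mul]
      have h3 : (O \ S).card = O.card - S.card := Finset.card_sdiff_of_subset hS
      have h4 := Finset.card_le_card hS
      obtain ⟨T, hT, h⟩ := key (O \ S) Finset.sdiff_subset (by
        rw [Nat.even_iff] at hSe ⊢
        omega) (by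
        rw [Finset.mem_sdiff]
        exact fun h => h.2 hxS)
      exact ⟨T, hT, by rw [← h, h1]⟩
    · obtain ⟨T, hT, h⟩ := key S hS hSe hxS
      exact ⟨T, hT, h.symm⟩
  have h1 : Nat.card (WG F O) ≤ (O'.powerset.image f).card := by
    have h2 : Nat.card (WG F O) ≤ Nat.card (O'.powerset.image f : Finset G) :=
      Nat.card_le_card_of_injective (fun a : WG F O => (⟨a, key2 _ a.2⟩ : (O'.powerset.image f : Finset G)))
        (fun a b h => Subtype.ext (congrArg (fun u : (O'.powerset.image f : Finset G) => (u : G)) h))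
    rwa [Nat.card_eq_fintype_card (α := (O'.powerset.image f : Finset G)), Fintype.card_coe] at h2
  refine h1.trans (Finset.card_image_le.trans ?_)
  rw [Finset.card_powerset, hO']
  norm_num

/-- the elements of `E` commuting with an element inducing an involution fixing `O` pointwise -/
theorem cases_of_comm {O : Finset GolayPt} (hO : O ∈ octads) {n : NE F}
    (hu : (F.π n : Equiv.Perm GolayPt) ∈ fixOct O) (hu1 : F.π n ≠ 1) {p : GolayPt} (hp : p ∉ O)
    {d : G} (hd : d ∈ F.E hex0) (hnd : (n : G) * d = d * n) :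
    d ∈ WG F O ∨ d * F.ε {p, (F.π n : Equiv.Perm GolayPt) p} ∈ WG F O := by
  obtain ⟨s, hs, rfl⟩ := exists_c F hd
  have h1 := conj_c F n hs
  rw [hnd, mul_inv_cancel_right] at h1
  have h2 := c_inj F hs (ev_act _ hs) h1
  have hne : p ≠ (F.π n : Equiv.Perm GolayPt) p := by
    intro h
    apply hu1
    exact Subtype.ext (OctadFixTrans.eq_one_of_fix hO hu hp h.symm)
  rcases fix_cases hO hu hu1 hp hs h2.symm with h | h
  · exact Or.inl (c_mem_WG h)
  · right
    rw [← c_du hne, ← c_xor F hs (ev_du _ _)]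
    exact c_mem_WG h

/-- two involutions fixing `O` pointwise -/
theorem mem_WG_of_comm {O : Finset GolayPt} (hO : O ∈ octads) {n m : NE F}
    (hu : (F.π n : Equiv.Perm GolayPt) ∈ fixOct O) (hu1 : F.π n ≠ 1)
    (hv : (F.π m : Equiv.Perm GolayPt) ∈ fixOct O) (hv1 : F.π m ≠ 1) (huv : F.π n ≠ F.π m)
    {d : G} (hd : d ∈ F.E hex0) (hnd : (n : G) * d = d * n) (hmd : (m : G) * d = d * m) :
    d ∈ WG F O := by
  obtain ⟨p, hp⟩ := FusionComm.exists_out hO
  set u := (F.π n : Equiv.Perm GolayPt) with hu'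
  set v := (F.π m : Equiv.Perm GolayPt) with hv'
  have hout : ∀ w ∈ fixOct O, w p ∉ O := by
    intro w hw h
    have h1 := (mem_fixOct.1 hw).2 _ h
    exact hp (w.injective h1 ▸ h)
  rcases cases_of_comm hO hu hu1 hp hd hnd with h | h
  · exact h
  rcases cases_of_comm hO hv hv1 hp hd hmd with h' | h'
  · exact h'
  exfalso
  have hpu : p ≠ u p := fun h1 => hu1 (Subtype.ext (OctadFixTrans.eq_one_of_fix hO hu hp h1.symm))
  have hpv : p ≠ v p := fun h1 => hv1 (Subtype.ext (OctadFixTrans.eq_one_of_fix hO hv hp h1.symm))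
  have huvp : u p ≠ v p := by
    intro h1
    apply huv
    apply Subtype.ext
    have h2 : v⁻¹ * u ∈ fixOct O := (fixOct O).mul_mem ((fixOct O).inv_mem hv) hu
    have h3 : v⁻¹ * u = 1 := OctadFixTrans.eq_one_of_fix hO h2 hp (by
      rw [Equiv.Perm.mul_apply, h1]
      exact v.symm_apply_apply p)
    exact (inv_mul_eq_one.1 h3).symm
  have h3 := (WG F O).mul_mem ((WG F O).inv_mem h) h'
  have h4 : (d * F.ε {p, u p})⁻¹ * (d * F.ε {p, v p}) = F.ε {u p, v p} := by
    have e1 : (F.ε {p, u p})⁻¹ = F.ε {p, u p} := inv_eq_of_mul_eq_one_right (ε_sq F (even_pair' hpu))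
    rw [mul_inv_rev, mul_assoc, inv_mul_cancel_left, e1, ← c_du hpu, ← c_du hpv,
      ← c_xor F (ev_du _ _) (ev_du _ _), ← c_du huvp]
    congr 2
    rw [← du_du (u p) p (v p)]
    congr 1
    exact Nat.xor_comm _ _
  rw [h4] at h3
  exact duad_not_mem_WG hO (hout u hu) (hout v hv) huvp h3

end

/-! ### counting lemmas -/

theorem four_mul_card_le [Finite G] {K W : Subgroup G} (hKW : K ≤ W) (hW : ∀ w ∈ W, w * w = 1)
    {a b : G} (ha : a ∈ W) (hb : b ∈ W) (haK : a ∉ K) (hbK : b ∉ K) (habK : a * b ∉ K) :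
    4 * Nat.card K ≤ Nat.card W := by
  classical
  let r : Fin 4 → G := ![1, a, b, a * b]
  have hcomm : ∀ x ∈ W, ∀ y ∈ W, x * y = y * x := Card.comm_of_sq hW
  have hinv : ∀ x ∈ W, x⁻¹ = x := fun x hx => inv_eq_of_mul_eq_one_left (hW x hx)
  have hr : ∀ i, r i ∈ W := by
    intro i
    fin_cases i
    · exact W.one_mem
    · exact ha
    · exact hb
    · exact W.mul_mem ha hb
  have hd : ∀ i j, i ≠ j → (r i)⁻¹ * r j ∉ K := by
    have e1 : a⁻¹ * (a * b) = b := by group
    have e2 : b⁻¹ * (a * b) = a := by rw [hcomm a ha b hb]; group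
    have e3 : a⁻¹ * b = a * b := by rw [hinv a ha]
    have hs : ∀ i j, (r i)⁻¹ * r j ∉ K → (r j)⁻¹ * r i ∉ K := by
      intro i j h h'
      apply h
      have := K.inv_mem h'
      rwa [mul_inv_rev, inv_inv] at this
    have h01 : (r 0)⁻¹ * r 1 ∉ K := by show (1 : G)⁻¹ * a ∉ K; simpa using haK
    have h02 : (r 0)⁻¹ * r 2 ∉ K := by show (1 : G)⁻¹ * b ∉ K; simpa using hbK
    have h03 : (r 0)⁻¹ * r 3 ∉ K := by show (1 : G)⁻¹ * (a * b) ∉ K; simpa using habK
    have h12 : (r 1)⁻¹ * r 2 ∉ K := by show a⁻¹ * b ∉ K; rw [e3]; exact habK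
    have h13 : (r 1)⁻¹ * r 3 ∉ K := by show a⁻¹ * (a * b) ∉ K; rw [e1]; exact hbK
    have h23 : (r 2)⁻¹ * r 3 ∉ K := by show b⁻¹ * (a * b) ∉ K; rw [e2]; exact haK
    intro i j hij
    fin_cases i <;> fin_cases j <;>
      first
      | exact absurd rfl hij
      | assumption
      | (apply hs; assumption)
  have h1 : Nat.card (Fin 4 × K) ≤ Nat.card W := by
    refine Nat.card_le_card_of_injective (fun x => (⟨r x.1 * x.2, W.mul_mem (hr _) (hKW x.2.2)⟩ : W)) ?_
    rintro ⟨i, k⟩ ⟨j, l⟩ h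
    have h2 : r i * k = r j * l := congrArg Subtype.val h
    have h3 : (r i)⁻¹ * r j = k * (l : G)⁻¹ := by
      rw [inv_mul_eq_iff_eq_mul, ← mul_assoc, h2, mul_inv_cancel_right]
    have h4 : i = j := by
      by_contra hij
      exact hd i j hij (h3 ▸ K.mul_mem k.2 (K.inv_mem l.2))
    subst h4
    rw [Prod.mk.injEq]
    exact ⟨rfl, Subtype.ext (mul_left_cancel h2)⟩
  rwa [Nat.card_prod, Nat.card_eq_fintype_card (α := Fin 4), Fintype.card_fin] at h1

theorem two_mul_card_le [Finite G] {K W : Subgroup G} (hKW : K ≤ W) {a : G} (ha : a ∈ W)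
    (haK : a ∉ K) : 2 * Nat.card K ≤ Nat.card W := by
  classical
  have h1 : Nat.card (Fin 2 × K) ≤ Nat.card W := by
    refine Nat.card_le_card_of_injective (fun x => (⟨(if x.1 = 0 then 1 else a) * x.2, W.mul_mem (by
      split_ifs
      · exact W.one_mem
      · exact ha) (hKW x.2.2)⟩ : W)) ?_
    rintro ⟨i, k⟩ ⟨j, l⟩ h
    have h2 : (if i = 0 then 1 else a) * (k : G) = (if j = 0 then 1 else a) * (l : G) :=
      congrArg Subtype.val h
    have h4 : i = j := by
      fin_cases i <;> fin_cases j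
      · rfl
      · exfalso
        apply haK
        have h3 : (k : G) = a * l := by simpa using h2
        have : a = k * (l : G)⁻¹ := by rw [h3, mul_inv_cancel_right]
        rw [this]
        exact K.mul_mem k.2 (K.inv_mem l.2)
      · exfalso
        apply haK
        have h3 : a * k = (l : G) := by simpa using h2
        have : a = l * (k : G)⁻¹ := by rw [← h3, mul_inv_cancel_right]
        rw [this]
        exact K.mul_mem l.2 (K.inv_mem k.2)
      · rfl
    subst h4
    rw [Prod.mk.injEq]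
    exact ⟨rfl, Subtype.ext (mul_left_cancel h2)⟩
  rwa [Nat.card_prod, Nat.card_eq_fintype_card (α := Fin 2), Fintype.card_fin] at h1

section

variable {F : Frame G}

theorem E_sq {a : G} (ha : a ∈ F.E hex0) : a * a = 1 :=
  (F.E_elem hex0 HexMax.hex0_isHex).1 a ha

/-- a duad commuting with `n` -/
theorem duad_comm {n : NE F} {p q : GolayPt} (hpq : p ≠ q)
    (h : (n : G) * F.ε {p, q} = F.ε {p, q} * n) :
    (F.π n : Equiv.Perm GolayPt) p = p ∨ (F.π n : Equiv.Perm GolayPt) p = q := by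
  have h1 := F.π_smul n {p, q} (even_pair' hpq)
  rw [h, mul_inv_cancel_right] at h1
  have h2 := Orbits.ε_pair_inj F (Finset.card_pair hpq)
    (by rw [Finset.card_smul_finset, Finset.card_pair hpq]) h1
  have h3 : (F.π n : Equiv.Perm GolayPt) p ∈ (F.π n : Equiv.Perm GolayPt) • ({p, q} : Finset GolayPt) :=
    Finset.smul_mem_smul_finset (Finset.mem_insert_self _ _)
  rw [← h2, Finset.mem_insert, Finset.mem_singleton] at h3
  exact h3

theorem comm_duad {n : NE F} {p q : GolayPt} (hpq : p ≠ q)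
    (h1 : (F.π n : Equiv.Perm GolayPt) p = q) (h2 : (F.π n : Equiv.Perm GolayPt) q = p) :
    (n : G) * F.ε {p, q} = F.ε {p, q} * n := by
  have h3 := F.π_smul n {p, q} (even_pair' hpq)
  have h4 : (F.π n : Equiv.Perm GolayPt) • ({p, q} : Finset GolayPt) = {p, q} := by
    rw [Finset.smul_finset_insert, Finset.smul_finset_singleton]
    show ({(F.π n : Equiv.Perm GolayPt) p, (F.π n : Equiv.Perm GolayPt) q} : Finset GolayPt) = _
    rw [h1, h2, Finset.pair_comm]
  rw [h4] at h3
  exact mul_inv_eq_iff_eq_mul.1 h3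

theorem ε_pair_mul {x y z : GolayPt} (hxy : x ≠ y) (hxz : x ≠ z) (hyz : y ≠ z) :
    F.ε {x, y} * F.ε {x, z} = F.ε {y, z} := by
  rw [← c_du hxy, ← c_du hxz, ← c_du hyz, ← c_xor F (ev_du _ _) (ev_du _ _)]
  congr 2
  rw [← du_du y x z]
  congr 1
  exact Nat.xor_comm _ _

/-- `|C_W(n)| ≤ |W| / 4` if `π n` moves `x, y` -/
theorem four_mul_card [Finite G] {O : Finset GolayPt} {n : NE F} {x y z : GolayPt} (hx : x ∈ O)
    (hy : y ∈ O) (hz : z ∈ O) (hxy : x ≠ y) (hxz : x ≠ z) (hyz : y ≠ z)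
    (h1 : (F.π n : Equiv.Perm GolayPt) x ≠ x) (h2 : (F.π n : Equiv.Perm GolayPt) x ≠ y)
    (h3 : (F.π n : Equiv.Perm GolayPt) x ≠ z) (h4 : (F.π n : Equiv.Perm GolayPt) y ≠ y)
    (h5 : (F.π n : Equiv.Perm GolayPt) y ≠ z) :
    4 * Nat.card (WG F O ⊓ Subgroup.centralizer ({(n : G)} : Set G) : Subgroup G) ≤
      Nat.card (WG F O) := by
  apply four_mul_card_le inf_le_left (fun w hw => E_sq (WG_le O hw)) (duad_mem_WG hx hy hxy)
    (duad_mem_WG hx hz hxz)
  · rintro ⟨-, h⟩
    rcases duad_comm hxy (Subgroup.mem_centralizer_singleton_iff.1 h).symm with h | h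
    · exact h1 h
    · exact h2 h
  · rintro ⟨-, h⟩
    rcases duad_comm hxz (Subgroup.mem_centralizer_singleton_iff.1 h).symm with h | h
    · exact h1 h
    · exact h3 h
  · rw [ε_pair_mul hxy hxz hyz]
    rintro ⟨-, h⟩
    rcases duad_comm hyz (Subgroup.mem_centralizer_singleton_iff.1 h).symm with h | h
    · exact h4 h
    · exact h5 h

/-- `|C_W(n, m)| ≤ |C_W(n)| / 2` -/
theorem two_mul_card [Finite G] {O : Finset GolayPt} {n m : NE F} {x y : GolayPt} (hx : x ∈ O)
    (hy : y ∈ O) (hxy : x ≠ y) (h1 : (F.π n : Equiv.Perm GolayPt) x = y)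
    (h2 : (F.π n : Equiv.Perm GolayPt) y = x) (h3 : (F.π m : Equiv.Perm GolayPt) x ≠ x)
    (h4 : (F.π m : Equiv.Perm GolayPt) x ≠ y) :
    2 * Nat.card (WG F O ⊓ Subgroup.centralizer ({(n : G)} : Set G) ⊓
      Subgroup.centralizer ({(m : G)} : Set G) : Subgroup G) ≤
      Nat.card (WG F O ⊓ Subgroup.centralizer ({(n : G)} : Set G) : Subgroup G) := by
  apply two_mul_card_le inf_le_left (a := F.ε {x, y})
  · exact ⟨duad_mem_WG hx hy hxy,
      Subgroup.mem_centralizer_singleton_iff.2 (comm_duad hxy h1 h2).symm⟩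
  · rintro ⟨-, h⟩
    rcases duad_comm hxy (Subgroup.mem_centralizer_singleton_iff.1 h).symm with h | h
    · exact h3 h
    · exact h4 h

end

end Cfsg.Agent.H857.WGrp
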